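import Cfsg.Agent.Lib.SolBase.Field

/-!
# Three vectors with trivial common stabilizer for completely reducible solvable groups
-/

set_option autoImplicit false

universe u

namespace CfsgLib.SolBase

open CfsgLib.LinearPPart
open CfsgLib.OddBase (Inv CR res cr_res ext_end)

/-- An idempotent of a normalized commutative ring gives blocks. -/
theorem idempotent_case {X : Type u} [Group X] [Finite X] {V : Type u} [AddCommGroup V] [Finite V]
    (hX : Group.IsSolvable X) (IH : SmallBase3.{u, u} (Nat.card V)) (ρ : X →* AddMonoid.End V)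
    (hirr : ∀ W : AddSubgroup V, Inv ρ W → W = ⊥ ∨ W = ⊤)
    (R : Subring (AddMonoid.End V)) (hcomm : ∀ a ∈ R, ∀ b ∈ R, a * b = b * a)
    (hnorm : ∀ g, ∀ a ∈ R, ρ g * a * ρ g⁻¹ ∈ R) {e₀ : AddMonoid.End V} (he₀ : e₀ ∈ R)
    (hidem₀ : e₀ * e₀ = e₀) (h0 : e₀ ≠ 0) (h1 : e₀ ≠ 1) : HasBase3 ρ := by
  classical
  haveI : Fintype X := Fintype.ofFinite X
  haveI : Finite (AddMonoid.End V) :=
    Finite.of_injective (fun f => (f : V → V)) DFunLike.coe_injective
  obtain ⟨e, ⟨he, hidem, hne⟩, hmin⟩ := Set.exists_min_image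
    {f | f ∈ R ∧ f * f = f ∧ f ≠ 0} (fun f => Nat.card (AddMonoidHom.range f)) (Set.toFinite _)
    ⟨e₀, he₀, hidem₀, h0⟩
  have rangeTop : ∀ f : AddMonoid.End V, f * f = f → AddMonoidHom.range f = ⊤ → f = 1 :=
    fun f hf ht => DFunLike.ext _ _ fun x => fix_range hf (ht ▸ AddSubgroup.mem_top x)
  have he1 : e ≠ 1 := by
    rintro rfl
    refine h1 (rangeTop e₀ hidem₀ (AddSubgroup.eq_top_of_le_card _ ?_))
    have := hmin e₀ ⟨he₀, hidem₀, h0⟩
    refine le_trans ?_ this
    exact (Nat.card_congr (Equiv.ofBijective (fun x : V => (⟨x, x, rfl⟩ :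
      AddMonoidHom.range (1 : AddMonoid.End V)))
      ⟨fun a b hab => congrArg Subtype.val hab, fun y => ⟨y, rfl⟩⟩)).le
  have hprim : ∀ f ∈ R, f * f = f → e * f = 0 ∨ e * f = e := by
    intro f hf hff
    refine or_iff_not_imp_left.mpr fun hef => ?_
    have hmul : e * f * (e * f) = e * f := by
      rw [← mul_assoc, mul_assoc e f e, ← hcomm e he f hf, ← mul_assoc e e f, hidem, mul_assoc, hff]
    have hle : AddMonoidHom.range (e * f) ≤ AddMonoidHom.range e := by
      rintro x ⟨y, rfl⟩; exact ⟨f y, rfl⟩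
    have heq := AddSubgroup.eq_of_le_of_card_ge hle (hmin _ ⟨R.mul_mem he hf, hmul, hef⟩)
    have : e * f * e = e := DFunLike.ext _ _ fun x => fix_range hmul (heq ▸ ⟨x, rfl⟩)
    rwa [mul_assoc, ← hcomm e he f hf, ← mul_assoc, hidem] at this
  let c : X → AddMonoid.End V → AddMonoid.End V := fun g a => ρ g * a * ρ g⁻¹
  have c_mul : ∀ g a b, c g (a * b) = c g a * c g b := fun g a b => by
    simp only [c]
    rw [show ρ g * a * ρ g⁻¹ * (ρ g * b * ρ g⁻¹) = ρ g * a * (ρ g⁻¹ * ρ g) * b * ρ g⁻¹ by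
      simp only [mul_assoc], rho_inv_mul, mul_one]
    simp only [mul_assoc]
  have c_one : ∀ a, c 1 a = a := fun a => by simp [c]
  have c_comp : ∀ g h a, c (g * h) a = c g (c h a) := fun g h a => by
    simp only [c, map_mul, mul_inv_rev, mul_assoc]
  have c_zero : ∀ g, c g 0 = 0 := fun g => by simp [c]
  set Ω := (Finset.univ : Finset X).image (fun g => c g e) with hΩ
  have hmemΩ : ∀ {a}, a ∈ Ω ↔ ∃ g, c g e = a := by simp [hΩ]
  have hΩR : ∀ a ∈ Ω, a ∈ R := fun a ha => by
    obtain ⟨g, rfl⟩ := hmemΩ.mp ha; exact hnorm g e he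
  have hΩid : ∀ a ∈ Ω, a * a = a := fun a ha => by
    obtain ⟨g, rfl⟩ := hmemΩ.mp ha; rw [← c_mul, hidem]
  have hΩne : ∀ a ∈ Ω, a ≠ 0 := fun a ha h => by
    obtain ⟨g, rfl⟩ := hmemΩ.mp ha
    apply hne
    have := congrArg (c g⁻¹) h
    rwa [← c_comp, inv_mul_cancel, c_one, c_zero] at this
  have hΩprim : ∀ a ∈ Ω, ∀ f ∈ R, f * f = f → a * f = 0 ∨ a * f = a := by
    intro a ha f hf hff
    obtain ⟨g, rfl⟩ := hmemΩ.mp ha
    have h2 : c g (c g⁻¹ f) = f := by rw [← c_comp, mul_inv_cancel, c_one]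
    rcases hprim (c g⁻¹ f) (hnorm _ f hf) (by rw [← c_mul, hff]) with h | h
    · left; rw [← h2, ← c_mul, h, c_zero]
    · right; rw [← h2, ← c_mul, h]
  have horth : ∀ a ∈ Ω, ∀ b ∈ Ω, a ≠ b → a * b = 0 := by
    intro a ha b hb hab
    refine (hΩprim a ha b (hΩR b hb) (hΩid b hb)).resolve_right fun h => ?_
    rcases hΩprim b hb a (hΩR a ha) (hΩid a ha) with h' | h'
    · rw [← hcomm a (hΩR a ha) b (hΩR b hb), h] at h'
      exact hΩne a ha h'
    · rw [← hcomm a (hΩR a ha) b (hΩR b hb), h] at h'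
      exact hab h'
  have hperm : ∀ g, ∀ a ∈ Ω, c g a ∈ Ω := fun g a ha => by
    obtain ⟨h, rfl⟩ := hmemΩ.mp ha
    exact hmemΩ.mpr ⟨g * h, c_comp g h e⟩
  have heΩ : e ∈ Ω := hmemΩ.mpr ⟨1, c_one e⟩
  -- the sum of the orbit is the identity
  have hsum : ∑ a ∈ Ω, a = 1 := by
    set t := ∑ a ∈ Ω, a with ht
    have htid : t * t = t := by
      rw [ht, Finset.sum_mul]
      refine Finset.sum_congr rfl fun a ha => ?_
      rw [Finset.mul_sum, Finset.sum_eq_single a (fun b hb hba => horth a ha b hb hba.symm)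
        (fun h => absurd ha h), hΩid a ha]
    have hfix : ∀ g, ρ g * t = t * ρ g := by
      intro g
      have hct : c g t = t := by
        show ρ g * (∑ a ∈ Ω, a) * ρ g⁻¹ = _
        rw [Finset.mul_sum, Finset.sum_mul]
        exact Finset.sum_nbij' (fun a => c g a) (fun a => c g⁻¹ a) (fun a => hperm g a)
          (fun a => hperm g⁻¹ a) (fun a _ => by rw [← c_comp, inv_mul_cancel, c_one])
          (fun a _ => by rw [← c_comp, mul_inv_cancel, c_one]) (fun a _ => rfl)
      conv_rhs => rw [← hct]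
      show ρ g * t = ρ g * t * ρ g⁻¹ * ρ g
      rw [mul_assoc _ (ρ g⁻¹), rho_inv_mul, mul_one]
    refine rangeTop t htid ((hirr _ fun g x hx => ?_).resolve_left fun h => ?_)
    · obtain ⟨y, rfl⟩ := hx
      exact ⟨ρ g y, (congrArg (fun k : AddMonoid.End V => k y) (hfix g)).symm⟩
    · apply hne
      have hte : t * e = e := by
        rw [ht, Finset.sum_mul, Finset.sum_eq_single e (fun b hb hbe => horth b hb e heΩ hbe)
          (fun h => absurd heΩ h), hidem]
      rw [← hte]
      refine DFunLike.ext _ _ fun x => ?_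
      have : t (e x) ∈ (⊥ : AddSubgroup V) := h ▸ ⟨e x, rfl⟩
      exact AddSubgroup.mem_bot.mp this
  have hr : 2 ≤ Ω.card := by
    by_contra h
    have hc : Ω.card = 1 := by have := Finset.card_pos.mpr ⟨e, heΩ⟩; omega
    obtain ⟨a, ha⟩ := Finset.card_eq_one.mp hc
    rw [ha, Finset.sum_singleton] at hsum
    rw [ha, Finset.mem_singleton] at heΩ
    exact he1 (heΩ.trans hsum)
  let σ : X →* Equiv.Perm Ω :=
    { toFun := fun g =>
        { toFun := fun a => ⟨c g a, hperm g a a.2⟩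
          invFun := fun a => ⟨c g⁻¹ a, hperm g⁻¹ a a.2⟩
          left_inv := fun a => Subtype.ext (by
            show c g⁻¹ (c g a) = a
            rw [← c_comp, inv_mul_cancel, c_one])
          right_inv := fun a => Subtype.ext (by
            show c g (c g⁻¹ a) = a
            rw [← c_comp, mul_inv_cancel, c_one]) }
      map_one' := Equiv.ext fun a => Subtype.ext (c_one _)
      map_mul' := fun g h => Equiv.ext fun a => Subtype.ext (c_comp g h _) }
  refine hasBase3_of_blocks ρ hX IH hirr (ι := Ω) (by rw [Fintype.card_coe]; exact hr)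
    (fun a => (a : AddMonoid.End V)) (fun a => hΩid a a.2)
    (fun a b hab => horth a a.2 b b.2 fun h => hab (Subtype.ext h)) (fun a => hΩne a a.2)
    (by rw [Finset.univ_eq_attach]; exact (Finset.sum_attach Ω fun a => a).trans hsum)
    σ (fun g a => ?_) ⟨e, heΩ⟩ fun a => ?_
  · show ρ g * (a : AddMonoid.End V) = ρ g * (a : AddMonoid.End V) * ρ g⁻¹ * ρ g
    rw [mul_assoc _ (ρ g⁻¹), rho_inv_mul, mul_one]
  · obtain ⟨g, hg⟩ := hmemΩ.mp a.2
    exact ⟨g, Subtype.ext hg⟩

/-- The faithful irreducible case. -/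
theorem irreducible_case {p : ℕ} [hp : Fact p.Prime] {X : Type u} [Group X] [Finite X] {V : Type u}
    [AddCommGroup V] [Finite V] [Nontrivial V] (hX : Group.IsSolvable X) (hV : ∀ x : V, p • x = 0)
    (IH : SmallBase3.{u, u} (Nat.card V)) (ρ : X →* AddMonoid.End V) (hρ : Function.Injective ρ)
    (hirr : ∀ W : AddSubgroup V, Inv ρ W → W = ⊥ ∨ W = ⊤) : HasBase3 ρ := by
  classical
  have hfree : PFree p X := pfree_of_irreducible hV ρ hρ hirr
  obtain ⟨A, hAn, hAab, hmax⟩ := exists_maximal_abelian_normal X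
  haveI := hAn
  haveI : Nontrivial (AddMonoid.End V) := ⟨⟨1, 0, fun h => by
    obtain ⟨x, hx⟩ := exists_ne (0 : V)
    exact hx (congrArg (fun k : AddMonoid.End V => k x) h)⟩⟩
  set S : Set (AddMonoid.End V) := ρ '' (A : Set X) with hS
  set R := Subring.closure S with hR
  have hScomm : ∀ a ∈ S, ∀ b ∈ S, a * b = b * a := by
    rintro _ ⟨a, ha, rfl⟩ _ ⟨b, hb, rfl⟩
    rw [← map_mul, ← map_mul, hAab a ha b hb]
  letI : CommRing R := Subring.closureCommRingOfComm hScomm
  have hcomm : ∀ a ∈ R, ∀ b ∈ R, a * b = b * a := fun a ha b hb =>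
    congrArg Subtype.val (mul_comm (⟨a, ha⟩ : R) ⟨b, hb⟩)
  have hnorm : ∀ g, ∀ a ∈ R, ρ g * a * ρ g⁻¹ ∈ R := by
    intro g a ha
    induction ha using Subring.closure_induction with
    | mem x hx =>
      obtain ⟨y, hy, rfl⟩ := hx
      rw [← map_mul, ← map_mul]
      exact Subring.subset_closure ⟨_, hAn.conj_mem y hy g, rfl⟩
    | zero => simp
    | one => rw [mul_one, ← map_mul, mul_inv_cancel, map_one]; exact R.one_mem
    | add x y _ _ hx hy => rw [mul_add, add_mul]; exact R.add_mem hx hy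
    | neg x _ hx => rw [mul_neg, neg_mul]; exact R.neg_mem hx
    | mul x y _ _ hx hy =>
      have : ρ g * (x * y) * ρ g⁻¹ = ρ g * x * ρ g⁻¹ * (ρ g * y * ρ g⁻¹) := by
        rw [show ρ g * x * ρ g⁻¹ * (ρ g * y * ρ g⁻¹) = ρ g * x * (ρ g⁻¹ * ρ g) * y * ρ g⁻¹ by
          simp only [mul_assoc], rho_inv_mul, mul_one]
        simp only [mul_assoc]
      rw [this]; exact R.mul_mem hx hy
  have hpA : ¬ p ∣ Nat.card A := not_dvd_card_of_abelian hfree A hAab
  -- the ring is reduced
  obtain ⟨N, hN1, hN⟩ : ∃ N, 2 ≤ N ∧ ∀ a ∈ R, a ^ N = a := by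
    set k := (Nat.card A).totient with hk
    have hk0 : 0 < k := Nat.totient_pos.mpr Nat.card_pos
    refine ⟨p ^ k, le_trans hp.out.two_le (Nat.le_self_pow hk0.ne' p), fun a ha => ?_⟩
    haveI : CharP R p := (CharP.charP_iff_prime_eq_zero hp.out).mpr (Subtype.ext (by
      show ((p : R) : AddMonoid.End V) = 0
      rw [Subring.coe_natCast R p]
      exact DFunLike.ext _ _ fun x => (AddMonoid.End.natCast_apply p x).trans (hV x)))
    suffices h : (⟨a, ha⟩ : R) ^ p ^ k = ⟨a, ha⟩ from congrArg Subtype.val h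
    induction ha using Subring.closure_induction with
    | mem x hx =>
      obtain ⟨y, hy, rfl⟩ := hx
      apply Subtype.ext
      show ρ y ^ p ^ k = ρ y
      rw [← map_pow]
      congr 1
      have h1 : p ^ k ≡ 1 [MOD Nat.card A] :=
        Nat.ModEq.pow_totient (hp.out.coprime_iff_not_dvd.mpr hpA)
      have h2 : orderOf y ∣ Nat.card A := A.orderOf_dvd_natCard hy
      conv_rhs => rw [← pow_one y]
      exact pow_eq_pow_iff_modEq.mpr (h1.of_dvd h2)
    | zero =>
      apply Subtype.ext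
      show (0 : AddMonoid.End V) ^ p ^ k = 0
      exact zero_pow (pow_ne_zero _ hp.out.ne_zero)
    | one => exact Subtype.ext (one_pow _)
    | add x y hx' hy' hx hy =>
      show ((⟨x, hx'⟩ : R) + ⟨y, hy'⟩) ^ p ^ k = _
      rw [add_pow_char_pow, hx, hy]
      rfl
    | neg x hx' hx =>
      show (-(⟨x, hx'⟩ : R)) ^ p ^ k = _
      rw [neg_eq_neg_one_mul, mul_pow, hx, neg_one_pow_expChar_pow]
      exact Subtype.ext (by simp)
    | mul x y hx' hy' hx hy =>
      show ((⟨x, hx'⟩ : R) * ⟨y, hy'⟩) ^ p ^ k = _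
      rw [mul_pow, hx, hy]
      rfl
  by_cases hid : ∃ e ∈ R, e * e = e ∧ e ≠ 0 ∧ e ≠ 1
  · obtain ⟨e, he, hee, he0, he1⟩ := hid
    exact idempotent_case hX IH ρ hirr R hcomm hnorm he hee he0 he1
  -- otherwise it is a field
  push Not at hid
  haveI : Finite (AddMonoid.End V) :=
    Finite.of_injective (fun f => (f : V → V)) DFunLike.coe_injective
  have hfield : IsField R := by
    refine ⟨⟨0, 1, fun h => zero_ne_one (congrArg Subtype.val h : (0 : AddMonoid.End V) = 1)⟩,
      mul_comm, fun {a} ha => ?_⟩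
    have h1 : (a : AddMonoid.End V) ^ N = a := hN _ a.2
    have h2 : (a : AddMonoid.End V) ^ (N - 1) * a = a := by
      rw [← pow_succ, Nat.sub_add_cancel (by omega), h1]
    have h3 : ((a : AddMonoid.End V) ^ (N - 1)) * (a : AddMonoid.End V) ^ (N - 1) =
        (a : AddMonoid.End V) ^ (N - 1) := by
      conv_lhs =>
        arg 2
        rw [show N - 1 = (N - 2) + 1 by omega, pow_succ']
      rw [← mul_assoc, h2, ← pow_succ', show N - 2 + 1 = N - 1 by omega]
    refine ⟨a ^ (N - 2), Subtype.ext ?_⟩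
    show (a : AddMonoid.End V) * (a : AddMonoid.End V) ^ (N - 2) = 1
    rw [← pow_succ', show N - 2 + 1 = N - 1 by omega]
    refine hid _ (R.pow_mem a.2 _) h3 fun h => ha (Subtype.ext ?_)
    rw [← h2, h, zero_mul]
    rfl
  letI : Field R := hfield.toField
  haveI : Finite R := inferInstance
  exact field_case (p := p) hX hV IH ρ hρ hirr R.subtype A hAab hmax
    (fun a ha => ⟨⟨ρ a, Subring.subset_closure ⟨a, ha, rfl⟩⟩, rfl⟩)
    (fun f hf r => by
      obtain ⟨x, hx⟩ := r
      induction hx using Subring.closure_induction with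
      | mem x hx => obtain ⟨y, hy, rfl⟩ := hx; exact hf y hy
      | zero => exact Commute.zero_right f
      | one => exact Commute.one_right f
      | add x y _ _ hx hy => exact hx.add_right hy
      | neg x _ hx => exact hx.neg_right
      | mul x y _ _ hx hy => exact hx.mul_right hy)
    (fun g r => ⟨⟨_, hnorm g r r.2⟩, rfl⟩) hpA

/-- A finite irreducible module has prime exponent. -/
theorem exists_prime_exponent {X : Type u} [Group X] {V : Type u} [AddCommGroup V] [Finite V]
    [Nontrivial V] (ρ : X →* AddMonoid.End V)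
    (hirr : ∀ W : AddSubgroup V, Inv ρ W → W = ⊥ ∨ W = ⊤) :
    ∃ p : ℕ, p.Prime ∧ ∀ x : V, p • x = 0 := by
  obtain ⟨p, hp, hpd⟩ := Nat.exists_prime_and_dvd (Finite.one_lt_card (α := V)).ne'
  haveI := Fact.mk hp
  obtain ⟨t, ht⟩ := exists_prime_addOrderOf_dvd_card' p hpd
  let T : AddSubgroup V := (nsmulAddMonoidHom p : V →+ V).ker
  have hT : Inv ρ T := fun g x hx => by
    show p • ρ g x = 0
    rw [← map_nsmul, show p • x = 0 from hx, map_zero]
  refine ⟨p, hp, fun x => ?_⟩
  rcases hirr T hT with h | h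
  · exfalso
    have : t ∈ T := by
      show p • t = 0
      rw [← ht]; exact addOrderOf_nsmul_eq_zero t
    rw [h, AddSubgroup.mem_bot] at this
    rw [this, addOrderOf_zero] at ht
    exact hp.ne_one ht.symm
  · exact (h ▸ AddSubgroup.mem_top x : x ∈ T)

/-- The general statement. -/
theorem smallBase3 : ∀ n, SmallBase3.{u, u} n := by
  intro n
  induction n with
  | zero => exact fun Y _ _ _ W _ _ h => absurd h (Nat.not_lt_zero _)
  | succ n ih =>
    intro X _ _ hX V _ _ hlt ρ hcr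
    have IH : SmallBase3.{u, u} (Nat.card V) := ih.mono (Nat.lt_succ_iff.1 hlt)
    by_cases hred : ∃ W : AddSubgroup V, Inv ρ W ∧ W ≠ ⊥ ∧ W ≠ ⊤
    · obtain ⟨W, hW, hb, ht⟩ := hred
      obtain ⟨U, hU, hd, hs⟩ := hcr W hW
      have hcard : ∀ Z : AddSubgroup V, Z ≠ ⊤ → Nat.card Z < Nat.card V := fun Z hZ =>
        lt_of_le_of_ne (AddSubgroup.card_le_card_addGroup Z)
          fun h => hZ (AddSubgroup.eq_top_of_card_eq Z h)
      have hUt : U ≠ ⊤ := by
        rintro rfl
        rw [inf_top_eq] at hd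
        exact hb hd
      exact hasBase3_of_sup ρ hW hU hs hd (IH X hX W (hcard W ht) _ (cr_res ρ hcr W hW))
        (IH X hX U (hcard U hUt) _ (cr_res ρ hcr U hU))
    push Not at hred
    have hirr : ∀ W : AddSubgroup V, Inv ρ W → W = ⊥ ∨ W = ⊤ :=
      fun W hW => or_iff_not_imp_left.mpr (hred W hW)
    rcases subsingleton_or_nontrivial V with hs | hs
    · exact ⟨0, 0, 0, fun g _ _ _ => ext_end fun x => Subsingleton.elim _ _⟩
    obtain ⟨p, hp, hV⟩ := exists_prime_exponent ρ hirr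
    haveI := Fact.mk hp
    set G := ρ.toHomUnits.range
    haveI : Finite (AddMonoid.End V) :=
      Finite.of_injective (fun f => (f : V → V)) DFunLike.coe_injective
    haveI := hX
    have hG : Group.IsSolvable G :=
      Group.isSolvable_of_surjective ρ.toHomUnits.rangeRestrict_surjective
    let ρ' : G →* AddMonoid.End V := (Units.coeHom _).comp G.subtype
    have hρ' : Function.Injective ρ' := Units.val_injective.comp Subtype.val_injective
    have hirr' : ∀ W : AddSubgroup V, Inv ρ' W → W = ⊥ ∨ W = ⊤ := fun W hW =>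
      hirr W fun g x hx => hW ⟨ρ.toHomUnits g, g, rfl⟩ x hx
    obtain ⟨a, b, c, hab⟩ := irreducible_case (p := p) hG hV IH ρ' hρ' hirr'
    exact ⟨a, b, c, fun g h1 h2 h3 => hab ⟨ρ.toHomUnits g, g, rfl⟩ h1 h2 h3⟩

end CfsgLib.SolBase
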