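import Mathlib

/-!
# A colouring of the non-zero vectors with trivial linear stabilizer

Three disjoint sets of non-zero vectors over a prime field, the last one non-empty, such that an
injective additive map preserving each of them is the identity.
-/

set_option autoImplicit false

namespace CfsgLib.SolBase

variable {q s : ℕ}

/-- The indicator vector of a set of coordinates. -/
def chi (S : Finset (Fin s)) : Fin s → ZMod q := fun i => if i ∈ S then 1 else 0

theorem chi_injective [Fact (1 < q)] : Function.Injective (chi : Finset (Fin s) → Fin s → ZMod q) := by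
  intro S T h
  ext i
  have := congrFun h i
  simp only [chi] at this
  by_cases h1 : i ∈ S <;> by_cases h2 : i ∈ T <;> simp [h1, h2] at this ⊢

theorem chi_ne_zero [Fact (1 < q)] {S : Finset (Fin s)} (hS : S.Nonempty) :
    (chi S : Fin s → ZMod q) ≠ 0 := by
  intro h
  obtain ⟨i, hi⟩ := hS
  have := congrFun h i
  simp [chi, hi] at this

theorem chi_eq_sum (S : Finset (Fin s)) :
    (chi S : Fin s → ZMod q) = ∑ i ∈ S, chi {i} := by
  funext k
  rw [Finset.sum_apply]
  simp [chi]

theorem map_chi {h : (Fin s → ZMod q) →+ (Fin s → ZMod q)} {π : Fin s → Fin s}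
    (hπ : ∀ i, h (chi {i}) = chi {π i}) (hinj : Function.Injective π) (S : Finset (Fin s)) :
    h (chi S) = chi (S.image π) := by
  rw [chi_eq_sum, map_sum, chi_eq_sum (S.image π), Finset.sum_image fun a _ b _ e => hinj e]
  simp only [hπ]

theorem eq_id_of_fix [NeZero q] (h : (Fin s → ZMod q) →+ (Fin s → ZMod q))
    (hfix : ∀ i, h (chi {i}) = chi {i}) (c : Fin s → ZMod q) : h c = c := by
  have hdec : c = ∑ i, (c i).val • (chi {i} : Fin s → ZMod q) := by
    funext k
    rw [Finset.sum_apply, Finset.sum_eq_single k]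
    · simp [chi]
    · intro i _ hi
      simp [chi, Ne.symm hi]
    · exact fun hk => absurd (Finset.mem_univ k) hk
  conv_lhs => rw [hdec, map_sum]
  conv_rhs => rw [hdec]
  simp only [map_nsmul, hfix]

theorem exists_pattern [hq : Fact q.Prime] (hs : 0 < s) :
    ∃ A B T : Set (Fin s → ZMod q), (0 : Fin s → ZMod q) ∉ A ∧ (0 : Fin s → ZMod q) ∉ B ∧
      (0 : Fin s → ZMod q) ∉ T ∧ Disjoint A B ∧ Disjoint A T ∧ Disjoint B T ∧ T.Nonempty ∧
      ∀ h : (Fin s → ZMod q) →+ (Fin s → ZMod q), Function.Injective h →
        (∀ c ∈ A, h c ∈ A) → (∀ c ∈ B, h c ∈ B) → (∀ c ∈ T, h c ∈ T) → ∀ c, h c = c := by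
  classical
  haveI : Fact (1 < q) := ⟨hq.out.one_lt⟩
  haveI : NeZero q := ⟨hq.out.ne_zero⟩
  rcases Nat.lt_or_ge s 3 with h3 | h3
  · rcases Nat.lt_or_ge s 2 with h2 | h2
    · obtain rfl : s = 1 := by omega
      refine ⟨∅, ∅, {chi {0}}, by simp, by simp, ?_, by simp, by simp, by simp,
        Set.singleton_nonempty _, fun h _ _ _ hT => eq_id_of_fix h fun i => ?_⟩
      · exact fun e => chi_ne_zero (Finset.singleton_nonempty _) (Set.mem_singleton_iff.1 e).symm
      · rw [Subsingleton.elim i 0]
        exact hT _ (Set.mem_singleton _)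
    · obtain rfl : s = 2 := by omega
      refine ⟨{chi {0}}, ∅, {chi {1}}, ?_, by simp, ?_, by simp, ?_, by simp,
        Set.singleton_nonempty _, fun h _ hA _ hT => eq_id_of_fix h fun i => ?_⟩
      · exact fun e => chi_ne_zero (Finset.singleton_nonempty _) (Set.mem_singleton_iff.1 e).symm
      · exact fun e => chi_ne_zero (Finset.singleton_nonempty _) (Set.mem_singleton_iff.1 e).symm
      · rw [Set.disjoint_singleton]
        exact fun e => absurd (Finset.singleton_injective (chi_injective e)) (by decide)
      · fin_cases i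
        · exact hA _ (Set.mem_singleton _)
        · exact hT _ (Set.mem_singleton _)
  · let i0 : Fin s := ⟨0, by omega⟩
    let i1 : Fin s := ⟨1, by omega⟩
    let i2 : Fin s := ⟨2, by omega⟩
    let P : ℕ → Finset (Fin s) := fun k => Finset.univ.filter fun i => (i : ℕ) < k
    have hP : ∀ k (i : Fin s), i ∈ P k ↔ (i : ℕ) < k := fun k i => by simp [P]
    have hPcard : ∀ k, k ≤ s → (P k).card = k := by
      intro k hk
      simp only [P]
      rw [Fin.card_filter_val_lt]
      omega
    refine ⟨Set.range fun i : Fin s => chi {i}, {c | ∃ k, 2 ≤ k ∧ k ≤ s ∧ c = chi (P k)},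
      {chi {i0, i2}}, ?_, ?_, ?_, ?_, ?_, ?_, Set.singleton_nonempty _, ?_⟩
    · rintro ⟨i, e⟩
      exact chi_ne_zero (Finset.singleton_nonempty _) e
    · rintro ⟨k, hk, hks, e⟩
      exact chi_ne_zero ⟨i0, (hP k i0).2 (show (0 : ℕ) < k by omega)⟩ e.symm
    · exact fun e => chi_ne_zero (Finset.insert_nonempty _ _) (Set.mem_singleton_iff.1 e).symm
    · rw [Set.disjoint_left]
      rintro _ ⟨i, rfl⟩ ⟨k, hk, hks, e⟩
      have := congrArg Finset.card (chi_injective e)
      rw [hPcard k hks, Finset.card_singleton] at this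
      omega
    · rw [Set.disjoint_singleton_right]
      rintro ⟨i, e⟩
      have := congrArg Finset.card (chi_injective e)
      rw [Finset.card_pair (by simp [i0, i2]), Finset.card_singleton] at this
      omega
    · rw [Set.disjoint_singleton_right]
      rintro ⟨k, hk, hks, e⟩
      have h1 : i1 ∈ ({i0, i2} : Finset (Fin s)) := by
        rw [chi_injective e]
        exact (hP k i1).2 (show (1 : ℕ) < k by omega)
      simp [i0, i1, i2] at h1
    intro h hinj hA hB hT
    refine eq_id_of_fix h ?_
    have hA' : ∀ i, ∃ j, h (chi {i}) = chi {j} := fun i => by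
      obtain ⟨j, e⟩ := hA _ ⟨i, rfl⟩
      exact ⟨j, e.symm⟩
    choose π hπ using hA'
    have hπinj : Function.Injective π := fun a b e =>
      Finset.singleton_injective (chi_injective (hinj (by rw [hπ, hπ, e])))
    have hPfix : ∀ k, 2 ≤ k → k ≤ s → (P k).image π = P k := by
      intro k hk hks
      obtain ⟨m, hm, hms, e⟩ := hB _ ⟨k, hk, hks, rfl⟩
      rw [map_chi hπ hπinj] at e
      have e' := chi_injective e
      have := congrArg Finset.card e'
      rw [Finset.card_image_of_injective _ hπinj, hPcard k hks, hPcard m hms] at this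
      rw [e', this]
    have hT' : ({i0, i2} : Finset (Fin s)).image π = {i0, i2} := by
      have := Set.mem_singleton_iff.1 (hT _ (Set.mem_singleton _))
      rw [map_chi hπ hπinj] at this
      exact chi_injective this
    have hlt : ∀ i k, 2 ≤ k → k ≤ s → ((π i : ℕ) < k ↔ (i : ℕ) < k) := by
      intro i k hk hks
      rw [← hP, ← hP, ← hπinj.mem_finset_image (s := P k) (a := i), hPfix k hk hks]
    have h00 : π i0 = i0 := by
      have h2 : π i0 ∈ ({i0, i2} : Finset (Fin s)) := by
        rw [← hT']
        exact Finset.mem_image_of_mem _ (by simp)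
      rcases Finset.mem_insert.1 h2 with e | e
      · exact e
      · have := (hlt i0 2 le_rfl (by omega)).2 (show (0 : ℕ) < 2 by omega)
        rw [Finset.mem_singleton.1 e] at this
        exact absurd this (lt_irrefl 2)
    have hid : ∀ i, π i = i := by
      intro i
      by_cases hi : (i : ℕ) = 0
      · rw [show i = i0 from Fin.ext hi, h00]
      have hne : (π i : ℕ) ≠ 0 := fun e => hi
        (congrArg Fin.val (hπinj (show π i = π i0 by rw [h00]; exact Fin.ext e)))
      have hup := (hlt i ((i : ℕ) + 1) (by omega) i.2).2 (Nat.lt_succ_self _)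
      apply Fin.ext
      rcases Nat.lt_or_ge (i : ℕ) 2 with h2 | h2
      · omega
      · have hdn := (not_congr (hlt i (i : ℕ) h2 i.2.le)).2 (lt_irrefl _)
        omega
    intro i
    rw [hπ, hid]

end CfsgLib.SolBase
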