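import Mathlib

/-!
# Small groups of operators and the extra operators of a plane of bad vectors
-/

set_option autoImplicit false

namespace CfsgLib.SolBase

/-- A faithful action of a group of order at most six has two points with trivial common
stabilizer. -/
theorem exists_two_points {T : Type*} [Group T] [Finite T] {W : Type*} [Nonempty W] [MulAction T W]
    [FaithfulSMul T W] (hT : Nat.card T ≤ 6) :
    ∃ b c : W, ∀ t : T, t • b = b → t • c = c → t = 1 := by
  by_cases h1 : ∀ t : T, t = 1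
  · exact ⟨Classical.arbitrary W, Classical.arbitrary W, fun t _ _ => h1 t⟩
  push Not at h1
  obtain ⟨t, ht⟩ := h1
  obtain ⟨b, hb⟩ : ∃ b : W, t • b ≠ b := by
    by_contra h
    push Not at h
    exact ht (eq_of_smul_eq_smul (α := W) fun x => by rw [h x, one_smul])
  set H := MulAction.stabilizer T b with hH
  have hlt : 2 * Nat.card H ≤ Nat.card T := by
    rw [← H.index_mul_card]
    exact Nat.mul_le_mul_right _ (H.one_lt_index_of_ne_top fun e => hb
      (MulAction.mem_stabilizer_iff.1 (e ▸ Subgroup.mem_top t : t ∈ H)))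
  by_cases h2 : ∀ x ∈ H, x = 1
  · exact ⟨b, b, fun x hx _ => h2 x hx⟩
  push Not at h2
  obtain ⟨x, hx, hx1⟩ := h2
  obtain ⟨c, hc⟩ : ∃ c : W, x • c ≠ c := by
    by_contra h
    push Not at h
    exact hx1 (eq_of_smul_eq_smul (α := W) fun y => by rw [h y, one_smul])
  have hprime : (Nat.card H).Prime := by
    haveI : Nontrivial H := ⟨⟨⟨x, hx⟩, 1, fun e => hx1 (congrArg Subtype.val e)⟩⟩
    have := Finite.one_lt_card (α := H)
    have h3 : Nat.card H = 2 ∨ Nat.card H = 3 := by omega
    rcases h3 with e | e <;> rw [e] <;> norm_num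
  haveI := Fact.mk hprime
  refine ⟨b, c, fun y hy hyc => ?_⟩
  by_contra hy1
  have hmem := mem_zpowers_of_prime_card (p := Nat.card H) (g := (⟨y, hy⟩ : H)) (g' := ⟨x, hx⟩) rfl
    fun e => hy1 (congrArg Subtype.val e)
  have hle : Subgroup.zpowers (⟨y, hy⟩ : H) ≤ (MulAction.stabilizer T c).subgroupOf H :=
    Subgroup.zpowers_le.2 hyc
  exact hc (hle hmem)

/-- If fixed-point sets are small, one point has trivial stabilizer. -/
theorem exists_one_point {T : Type*} [Group T] [Finite T] {W : Type*} [Finite W] [Nonempty W]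
    [MulAction T W] {n : ℕ} (hT : Nat.card T ≤ n)
    (hfix : ∀ t : T, t ≠ 1 → Nat.card (MulAction.fixedBy W t) * n ≤ Nat.card W) :
    ∃ c : W, ∀ t : T, t • c = c → t = 1 := by
  classical
  haveI : Fintype T := Fintype.ofFinite T
  haveI : Fintype W := Fintype.ofFinite W
  by_contra h
  push Not at h
  have hsub : (Finset.univ : Finset W) ⊆ ((Finset.univ : Finset T).erase 1).biUnion
      fun t => (MulAction.fixedBy W t).toFinset := fun c _ => by
    obtain ⟨t, ht, ht1⟩ := h c
    exact Finset.mem_biUnion.2 ⟨t, by simp [ht1], by simpa using ht⟩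
  have h1 := (Finset.card_le_card hsub).trans Finset.card_biUnion_le
  have h2 : (∑ t ∈ (Finset.univ : Finset T).erase 1, (MulAction.fixedBy W t).toFinset.card) * n ≤
      ((Finset.univ : Finset T).erase 1).card * Fintype.card W := by
    rw [Finset.sum_mul]
    refine (Finset.sum_le_card_nsmul _ _ (Fintype.card W) fun t ht => ?_).trans (le_of_eq (smul_eq_mul _ _))
    rw [Set.toFinset_card, ← Nat.card_eq_fintype_card, ← Nat.card_eq_fintype_card]
    exact hfix t (Finset.ne_of_mem_erase ht)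
  rw [Finset.card_erase_of_mem (Finset.mem_univ _), Finset.card_univ, ← Nat.card_eq_fintype_card (α := T)] at h2
  rw [Finset.card_univ] at h1
  have h3 : 0 < Fintype.card W := Fintype.card_pos
  have h4 : 0 < Nat.card T := Nat.card_pos
  have := Nat.mul_le_mul_right n h1
  have h5 : Fintype.card W * n ≤ (Nat.card T - 1) * Fintype.card W := this.trans h2
  rw [mul_comm (Nat.card T - 1)] at h5
  have := Nat.le_of_mul_le_mul_left h5 h3
  omega

variable {F : Type*} [Field F] [Finite F] {V : Type*} [AddCommGroup V] (σ : F →+* AddMonoid.End V)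

/-- The monoid of operators generated by an anticommuting pair of bad vectors: its only members
with eigenvectors are the scalars. -/
theorem exists_plane_monoid {u v : AddMonoid.End V} {α β : F} (hσu : ∀ r, Commute (σ r) u)
    (hσv : ∀ r, Commute (σ r) v) (huv : u * v = σ (-1) * (v * u)) (hu : u * u = σ β)
    (hv : v * v = σ α) (hβ : ¬ IsSquare β) (hα : ¬ IsSquare α) (hαβ : ¬ IsSquare (-(β * α))) :
    ∃ E : Submonoid (AddMonoid.End V), (∀ r, σ r ∈ E) ∧ u ∈ E ∧ v ∈ E ∧
      (∀ g, (∀ r, Commute g (σ r)) → Commute g u → Commute g v → ∀ e ∈ E, Commute g e) ∧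
      (∀ e ∈ E, ∀ (r : F) (x : V), x ≠ 0 → e x = σ r x → e = σ r) := by
  have hvu : v * u = σ (-1) * (u * v) := by
    rw [huv, ← mul_assoc, ← map_mul, neg_one_mul, neg_neg, map_one, one_mul]
  let k : Fin 4 → AddMonoid.End V := ![1, u, v, u * v]
  have hk : ∀ i r, Commute (σ r) (k i) := by
    intro i r
    fin_cases i
    exacts [Commute.one_right _, hσu r, hσv r, (hσu r).mul_right (hσv r)]
  have tab : ∀ i j, ∃ r l, k i * k j = σ r * k l := by
    have one : ∀ i, ∃ r l, k i = σ r * k l := fun i => ⟨1, i, by rw [map_one, one_mul]⟩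
    have t12 : u * (u * v) = σ β * v := by rw [← mul_assoc, hu]
    have t21 : v * (u * v) = σ (-α) * u := by
      rw [← mul_assoc, hvu, mul_assoc, mul_assoc u v v, hv, ← (hσu α).eq, ← mul_assoc, ← map_mul,
        neg_one_mul]
    have t31 : u * v * u = σ (-β) * v := by
      rw [mul_assoc, hvu, ← mul_assoc, ← (hσu _).eq, mul_assoc, ← mul_assoc u u v, hu, ← mul_assoc,
        ← map_mul, neg_one_mul]
    have t32 : u * v * v = σ α * u := by rw [mul_assoc, hv, (hσu α).eq]
    have t33 : u * v * (u * v) = σ (-(β * α)) * 1 := by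
      rw [← mul_assoc (u * v) u v, t31, mul_assoc, hv, ← map_mul, mul_one, neg_mul]
    intro i j
    fin_cases i <;> fin_cases j <;> simp only [k, Fin.zero_eta, Fin.mk_one, Fin.reduceFinMk,
      Matrix.cons_val, one_mul, mul_one]
    · exact ⟨1, 0, by simp⟩
    · exact ⟨1, 1, by simp⟩
    · exact ⟨1, 2, by simp⟩
    · exact ⟨1, 3, by simp⟩
    · exact ⟨1, 1, by simp⟩
    · exact ⟨β, 0, by simpa using hu⟩
    · exact ⟨1, 3, by simp⟩
    · exact ⟨β, 2, by simpa using t12⟩
    · exact ⟨1, 2, by simp⟩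
    · exact ⟨-1, 3, by simpa using hvu⟩
    · exact ⟨α, 0, by simpa using hv⟩
    · exact ⟨-α, 1, by simpa using t21⟩
    · exact ⟨1, 3, by simp⟩
    · exact ⟨-β, 2, by simpa using t31⟩
    · exact ⟨α, 1, by simpa using t32⟩
    · exact ⟨-(β * α), 0, by simpa using t33⟩
  let E : Submonoid (AddMonoid.End V) :=
    { carrier := {f | ∃ r i, f = σ r * k i}
      one_mem' := ⟨1, 0, by simp [k]⟩
      mul_mem' := by
        rintro _ _ ⟨r, i, rfl⟩ ⟨r', j, rfl⟩
        obtain ⟨r'', l, e⟩ := tab i j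
        refine ⟨r * r' * r'', l, ?_⟩
        rw [mul_assoc, ← mul_assoc (k i), ← (hk i r').eq, mul_assoc (σ r'), e, ← mul_assoc,
          ← mul_assoc, ← map_mul, ← map_mul] }
  refine ⟨E, fun r => ⟨r, 0, by simp [k]⟩, ⟨1, 1, by simp [k]⟩, ⟨1, 2, by simp [k]⟩, ?_, ?_⟩
  · rintro g hg hgu hgv _ ⟨r, i, rfl⟩
    refine (hg r).mul_right ?_
    fin_cases i
    exacts [Commute.one_right _, hgu, hgv, hgu.mul_right hgv]
  · rintro _ ⟨c, i, rfl⟩ r x hx h
    have hzero : ∀ {a : F}, σ a x = 0 → a = 0 := fun {a} ha => by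
      by_contra hne
      apply hx
      have := congrArg (σ a⁻¹) ha
      rwa [map_zero, show σ a⁻¹ (σ a x) = (σ a⁻¹ * σ a) x from rfl, ← map_mul,
        inv_mul_cancel₀ hne, map_one] at this
    by_cases hi : i = 0
    · subst hi
      have h' : σ c x = σ r x := by simpa [k] using h
      have : σ (c - r) x = 0 := by rw [map_sub]; exact sub_eq_zero.2 h'
      rw [sub_eq_zero.1 (hzero this)]
      simp [k]
    by_cases hc : c = 0
    · subst hc
      rw [map_zero, zero_mul] at h ⊢
      rw [hzero h.symm, map_zero]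
    exfalso
    obtain ⟨γ, hγ, hsq⟩ : ∃ γ, ¬ IsSquare γ ∧ k i * k i = σ γ := by
      fin_cases i
      · exact absurd rfl hi
      · exact ⟨β, hβ, hu⟩
      · exact ⟨α, hα, hv⟩
      · refine ⟨-(β * α), hαβ, ?_⟩
        show u * v * (u * v) = _
        rw [← mul_assoc (u * v) u v, mul_assoc u v u, hvu, ← mul_assoc, ← (hσu _).eq,
          mul_assoc (σ (-1)), ← mul_assoc u u v, hu, ← mul_assoc, ← map_mul, mul_assoc, hv,
          ← map_mul, neg_one_mul, neg_mul]
    have h1 : k i x = σ (c⁻¹ * r) x := by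
      rw [map_mul]
      show k i x = σ c⁻¹ (σ r x)
      rw [← show (σ c * k i) x = σ r x from h,
        show σ c⁻¹ ((σ c * k i) x) = (σ c⁻¹ * σ c) (k i x) from rfl, ← map_mul,
        inv_mul_cancel₀ hc, map_one]
      rfl
    have h2 : σ γ x = σ (c⁻¹ * r * (c⁻¹ * r)) x := by
      rw [← hsq, map_mul σ (c⁻¹ * r)]
      show k i (k i x) = σ _ (σ _ x)
      rw [h1, show k i (σ (c⁻¹ * r) x) = (k i * σ (c⁻¹ * r)) x from rfl, ← (hk i _).eq]
      show σ _ (k i x) = _
      rw [h1]
    have h3 : σ (γ - c⁻¹ * r * (c⁻¹ * r)) x = 0 := by rw [map_sub]; exact sub_eq_zero.2 h2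
    exact hγ ⟨_, sub_eq_zero.1 (hzero h3)⟩

end CfsgLib.SolBase
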