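import Cfsg.Agent.Lib.SolBase.Basic
import Cfsg.Agent.S4337

/-!
# Five inequivalent regular triples

A non-zero module of a solvable group with a base of three vectors has five such bases no two of
which are equivalent: the elementary operations on triples form a perfect group.
-/

set_option autoImplicit false

universe u v

namespace CfsgLib.SolBase

open scoped commutatorElement
open CfsgLib.OddBase (map_mul_apply inv_apply apply_inv ext_end mul_apply' one_apply')

section

variable (W : Type v) [AddCommGroup W]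

/-- The elementary operation adding the entry `i` to the entry `j`. -/
def transv (i j : Fin 3) (h : i ≠ j) : Equiv.Perm (Fin 3 → W) where
  toFun f := Function.update f j (f j + f i)
  invFun f := Function.update f j (f j - f i)
  left_inv f := funext fun k => by
    by_cases hk : k = j
    · subst hk; simp [h]
    · simp [hk]
  right_inv f := funext fun k => by
    by_cases hk : k = j
    · subst hk; simp [h]
    · simp [hk]

/-- The group generated by the elementary operations. -/
def elemGroup : Subgroup (Equiv.Perm (Fin 3 → W)) :=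
  Subgroup.closure {e | ∃ i j h, e = transv W i j h}

theorem transv_mem (i j : Fin 3) (h : i ≠ j) : transv W i j h ∈ elemGroup W :=
  Subgroup.subset_closure ⟨i, j, h, rfl⟩

theorem elemGroup_perfect : ⁅elemGroup W, elemGroup W⁆ = elemGroup W := by
  refine le_antisymm (Subgroup.commutator_le_self _) ?_
  refine (Subgroup.closure_le _).2 ?_
  rintro _ ⟨i, k, hik, rfl⟩
  obtain ⟨j, hij, hjk⟩ := (by decide : ∀ i k : Fin 3, ∃ j, i ≠ j ∧ j ≠ k) i k
  have e : transv W i k hik = ⁅transv W j k hjk, transv W i j hij⁆ := by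
    rw [commutatorElement_def]
    refine Equiv.ext fun f => ?_
    funext l
    simp only [Equiv.Perm.mul_apply, transv, Equiv.coe_fn_mk, Equiv.Perm.inv_def, Equiv.coe_fn_symm_mk]
    by_cases h1 : l = k
    · subst h1
      simp [hik, hjk, hij, Ne.symm hik, Ne.symm hjk, Ne.symm hij]
      abel
    · by_cases h2 : l = j
      · subst h2
        simp [hik, hjk, hij, Ne.symm hik, Ne.symm hjk, Ne.symm hij]
      · simp [h1, h2]
  rw [SetLike.mem_coe, e]
  exact Subgroup.commutator_mem_commutator (transv_mem W j k hjk) (transv_mem W i j hij)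

theorem hom_elemGroup {S : Type*} [Group S] (hS : Group.IsSolvable S) (f : elemGroup W →* S)
    (e : elemGroup W) : f e = 1 := by
  have htop : ⁅(⊤ : Subgroup (elemGroup W)), (⊤ : Subgroup (elemGroup W))⁆ = ⊤ := by
    apply Subgroup.map_injective (elemGroup W).subtype_injective
    rw [Subgroup.map_commutator, ← MonoidHom.range_eq_map, Subgroup.range_subtype,
      elemGroup_perfect]
  by_contra he
  have hne : (⊤ : Subgroup (elemGroup W)).map f ≠ ⊥ := fun h =>
    he (Subgroup.mem_bot.1 (h ▸ ⟨e, trivial, rfl⟩))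
  haveI := hS
  have := Group.IsSolvable.commutator_lt_of_ne_bot hne
  rw [← Subgroup.map_commutator, htop] at this
  exact lt_irrefl _ this

end

variable {X : Type u} [Group X] {W : Type v} [AddCommGroup W] (ρ : X →* AddMonoid.End W)

theorem elemGroup_equivariant {e : Equiv.Perm (Fin 3 → W)} (he : e ∈ elemGroup W) :
    ∀ (g : X) (f : Fin 3 → W), e (fun k => ρ g (f k)) = fun k => ρ g (e f k) := by
  induction he using Subgroup.closure_induction with
  | mem x hx =>
    obtain ⟨i, j, h, rfl⟩ := hx
    intro g f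
    funext k
    simp only [transv, Equiv.coe_fn_mk]
    by_cases hk : k = j
    · subst hk; simp
    · simp [hk]
  | one => intro g f; rfl
  | mul a b _ _ ha hb => intro g f; rw [Equiv.Perm.mul_apply, hb, ha]; rfl
  | inv a _ ha =>
    intro g f
    rw [Equiv.Perm.inv_eq_iff_eq, ha]
    simp

theorem exists_five_triples_of_stab [Finite X] [Finite W] (hX : Group.IsSolvable X)
    (T : Fin 3 → W) (hT0 : T ≠ 0) (hT : ∀ g, (∀ k, ρ g (T k) = T k) → ρ g = 1) :
    ∃ p : Fin 5 → Fin 3 → W, ∀ (c c' : Fin 5) (g : X),
      (∀ k, ρ g (p c k) = p c' k) → c = c' ∧ ρ g = 1 := by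
  classical
  haveI := hX
  set E := elemGroup W with hE
  have heq : ∀ (e : E) g f, (e : Equiv.Perm (Fin 3 → W)) (fun k => ρ g (f k)) =
      fun k => ρ g ((e : Equiv.Perm (Fin 3 → W)) f k) := fun e g f => elemGroup_equivariant ρ e.2 g f
  let R : Subgroup E :=
    { carrier := {e | ∃ g, (e : Equiv.Perm (Fin 3 → W)) T = fun k => ρ g (T k)}
      one_mem' := ⟨1, by simp⟩
      mul_mem' := by
        rintro a b ⟨g, hg⟩ ⟨h, hh⟩
        refine ⟨h * g, ?_⟩
        rw [Subgroup.coe_mul, Equiv.Perm.mul_apply, hh, heq, hg]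
        funext k
        rw [map_mul_apply]
      inv_mem' := by
        rintro a ⟨g, hg⟩
        refine ⟨g⁻¹, ?_⟩
        rw [Subgroup.coe_inv, Equiv.Perm.inv_eq_iff_eq, heq, hg]
        funext k
        rw [inv_apply] }
  rcases Nat.lt_or_ge R.index 5 with hlt | hge
  · exfalso
    -- the elementary group fixes all cosets, hence is realised by the group
    haveI : Finite (E ⧸ R) := inferInstance
    haveI : Fintype (E ⧸ R) := Fintype.ofFinite _
    haveI hsol : Group.IsSolvable (Equiv.Perm (E ⧸ R)) :=
      CfsgLib.SmallPerm.isSolvable_perm_card_le_four (by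
        rw [← Nat.card_eq_fintype_card, ← Subgroup.index_eq_card]; omega)
    have hR : ∀ e : E, e ∈ R := fun e => by
      have h1 := congrArg (fun f : Equiv.Perm (E ⧸ R) => f ((1 : E) : E ⧸ R))
        (hom_elemGroup W hsol (MulAction.toPermHom E (E ⧸ R)) e)
      change ((e * 1 : E) : E ⧸ R) = ((1 : E) : E ⧸ R) at h1
      have := QuotientGroup.eq.1 h1
      simpa using this
    have hR' : ∀ e : E, ∃ g, (e : Equiv.Perm (Fin 3 → W)) T = fun k => ρ g (T k) := hR
    choose γ hγ using hR'
    have huniq : ∀ a b : X, (∀ k, ρ a (T k) = ρ b (T k)) → ρ.toHomUnits a = ρ.toHomUnits b := by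
      intro a b h
      have h1 := hT (b⁻¹ * a) fun k => by rw [map_mul_apply, h, inv_apply]
      refine Units.ext ?_
      show ρ a = ρ b
      rw [show a = b * (b⁻¹ * a) by group, map_mul, h1, mul_one]
    let f : E →* ρ.toHomUnits.range :=
      MonoidHom.mk' (fun e => ⟨ρ.toHomUnits (γ e)⁻¹, _, rfl⟩) fun a b => Subtype.ext (by
        show ρ.toHomUnits (γ (a * b))⁻¹ = ρ.toHomUnits (γ a)⁻¹ * ρ.toHomUnits (γ b)⁻¹
        rw [← map_mul, ← mul_inv_rev, map_inv, map_inv]
        refine congrArg _ (huniq _ _ fun k => ?_)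
        have h1 := hγ (a * b)
        rw [Subgroup.coe_mul, Equiv.Perm.mul_apply, hγ b, heq, hγ a] at h1
        rw [← congrFun h1 k, map_mul_apply])
    haveI : Group.IsSolvable ρ.toHomUnits.range :=
      Group.isSolvable_of_surjective ρ.toHomUnits.rangeRestrict_surjective
    have hfix : ∀ e : E, (e : Equiv.Perm (Fin 3 → W)) T = T := by
      intro e
      have h1 : ρ.toHomUnits (γ e)⁻¹ = 1 := congrArg Subtype.val (hom_elemGroup W ‹_› f e)
      rw [map_inv, inv_eq_one] at h1
      rw [hγ]
      funext k
      rw [show ρ (γ e) = 1 from congrArg Units.val h1]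
      rfl
    refine hT0 (funext fun i => ?_)
    obtain ⟨j, hij⟩ := exists_ne i
    have := congrFun (hfix ⟨_, transv_mem W i j hij.symm⟩) j
    simpa [transv] using this
  · obtain ⟨r, hr⟩ : ∃ r : Fin 5 → E ⧸ R, Function.Injective r := by
      haveI : Fintype (E ⧸ R) := Fintype.ofFinite _
      obtain ⟨r⟩ := Function.Embedding.nonempty_of_card_le (α := Fin 5) (β := E ⧸ R) (by
        rw [Fintype.card_fin, ← Nat.card_eq_fintype_card, ← Subgroup.index_eq_card]; exact hge)
      exact ⟨r, r.injective⟩
    refine ⟨fun c => (((r c).out : E) : Equiv.Perm (Fin 3 → W)) T, fun c c' g h => ?_⟩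
    have h2 : (fun k => ρ g (T k)) =
        ((((r c).out)⁻¹ * (r c').out : E) : Equiv.Perm (Fin 3 → W)) T := by
      apply ((r c).out : E).1.injective
      rw [heq, Subgroup.coe_mul, Subgroup.coe_inv, Equiv.Perm.mul_apply, Equiv.Perm.coe_inv, Equiv.apply_symm_apply]
      exact funext h
    have hcc : c = c' := hr (by
      rw [← QuotientGroup.out_eq' (r c), ← QuotientGroup.out_eq' (r c'), QuotientGroup.eq]
      exact ⟨g, h2.symm⟩)
    subst hcc
    refine ⟨rfl, hT g fun k => ?_⟩
    rw [inv_mul_cancel, Subgroup.coe_one, Equiv.Perm.one_apply] at h2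
    exact congrFun h2 k

/-- Five inequivalent regular triples. -/
theorem exists_five_triples [Finite X] [Finite W] [Nontrivial W] (hX : Group.IsSolvable X)
    (hb : HasBase3 ρ) : ∃ p : Fin 5 → Fin 3 → W, ∀ (c c' : Fin 5) (g : X),
      (∀ k, ρ g (p c k) = p c' k) → c = c' ∧ ρ g = 1 := by
  obtain ⟨a, b, c, ha, hab⟩ := hb.exists_ne_zero
  refine exists_five_triples_of_stab ρ hX ![a, b, c] (fun h => ha (congrFun h 0)) fun g hg => ?_
  exact hab g (hg 0) (hg 1) (hg 2)

end CfsgLib.SolBase
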