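import Cfsg.Agent.Lib.SolBase.Colour
import Cfsg.Agent.Lib.SolBase.Triples

/-!
# Three vectors for an imprimitive solvable group
-/

set_option autoImplicit false

universe u

namespace CfsgLib.SolBase

open CfsgLib.OddBase (Inv CR res res_apply map_mul_apply inv_apply apply_inv ext_end mul_apply'
  one_apply')

variable {X : Type u} [Group X] {V : Type u} [AddCommGroup V] (ρ : X →* AddMonoid.End V)

/-- The imprimitive case. -/
theorem hasBase3_of_blocks [Finite X] [Finite V] (hX : Group.IsSolvable X)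
    (IH : SmallBase3.{u, u} (Nat.card V)) (hirr : ∀ U, Inv ρ U → U = ⊥ ∨ U = ⊤)
    {ι : Type u} [Fintype ι] [DecidableEq ι] (hι : 2 ≤ Fintype.card ι) (e : ι → AddMonoid.End V)
    (hidem : ∀ i, e i * e i = e i) (horth : ∀ i j, i ≠ j → e i * e j = 0) (hne : ∀ i, e i ≠ 0)
    (hsum : ∑ i, e i = 1) (σ : X →* Equiv.Perm ι) (hσ : ∀ g i, ρ g * e i = e (σ g i) * ρ g)
    (i₀ : ι) (htr : ∀ i, ∃ g, σ g i₀ = i) : HasBase3 ρ := by
  classical
  have hσ' : ∀ g i x, ρ g (e i x) = e (σ g i) (ρ g x) := fun g i x =>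
    congrArg (fun f : AddMonoid.End V => f x) (hσ g i)
  have hid : ∀ i x, e i (e i x) = e i x := fun i x =>
    congrArg (fun f : AddMonoid.End V => f x) (hidem i)
  have hor : ∀ i j x, i ≠ j → e i (e j x) = 0 := fun i j x h =>
    congrArg (fun f : AddMonoid.End V => f x) (horth i j h)
  have hdec : ∀ x, ∑ i, e i x = x := fun x => by
    have := congrArg (fun f : AddMonoid.End V => f x) hsum
    simp only [AddMonoid.End.coe_one, id_eq] at this
    conv_rhs => rw [← this]
    exact (AddMonoidHom.finsetSum_apply e Finset.univ x).symm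
  let W : AddSubgroup V := AddMonoidHom.range (e i₀)
  have hWfix : ∀ x ∈ W, e i₀ x = x := by rintro _ ⟨y, rfl⟩; exact hid i₀ y
  have hWne : ∀ i, ∃ x, e i x ≠ 0 := fun i => by
    by_contra h
    push Not at h
    exact hne i (ext_end h)
  choose z hz using hWne
  haveI : Nontrivial W := ⟨⟨⟨_, z i₀, rfl⟩, 0, fun h => hz i₀ (congrArg Subtype.val h)⟩⟩
  obtain ⟨j, hj⟩ := Fintype.exists_ne_of_one_lt_card (by omega : 1 < Fintype.card ι) i₀
  have hWlt : Nat.card W < Nat.card V := by
    have hne : W ≠ ⊤ := by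
      intro h
      have := hWfix (e j (z j)) (h ▸ AddSubgroup.mem_top _)
      rw [hor _ _ _ (Ne.symm hj)] at this
      exact hz j this.symm
    exact lt_of_le_of_ne (AddSubgroup.card_le_card_addGroup W)
      fun h => hne (AddSubgroup.eq_top_of_card_eq W h)
  have hιV : Fintype.card ι + 1 ≤ Nat.card V := by
    let F : Option ι → V := fun o => o.elim 0 fun i => e i (z i)
    have hF : Function.Injective F := by
      intro a b h
      rcases a with _ | i <;> rcases b with _ | k
      · rfl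
      · exact absurd h.symm (hz k)
      · exact absurd h (hz i)
      · by_cases hik : i = k
        · rw [hik]
        · have h' := congrArg (e i) h
          simp only [F, Option.elim, hid, hor _ _ _ hik] at h'
          exact absurd h' (hz i)
    have := Nat.card_le_card_of_injective F hF
    rwa [Nat.card_eq_fintype_card, Fintype.card_option] at this
  -- the top group
  haveI : Nonempty ι := ⟨i₀⟩
  obtain ⟨col5, hcol5⟩ := exists_five (Fintype.card ι) (IH.mono hιV) X hX ι
    (Nat.card_eq_fintype_card).le σ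
  -- the stabilizer of the first block
  let H : Subgroup X :=
    { carrier := {g | σ g i₀ = i₀}
      one_mem' := by simp
      mul_mem' := fun {g h} hg hh => by
        show σ (g * h) i₀ = i₀
        rw [map_mul, Equiv.Perm.mul_apply, show σ h i₀ = i₀ from hh]; exact hg
      inv_mem' := fun {g} hg => by
        show σ g⁻¹ i₀ = i₀
        rw [map_inv, Equiv.Perm.inv_eq_iff_eq]
        exact (show σ g i₀ = i₀ from hg).symm }
  have hHW : Inv (ρ.comp H.subtype) W := by
    rintro h x ⟨y, rfl⟩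
    have h1 := hσ' h i₀ y
    rw [show σ (h : X) i₀ = i₀ from h.2] at h1
    exact ⟨ρ h y, h1.symm⟩
  have hirrW : ∀ U, Inv (res (ρ.comp H.subtype) W hHW) U → U = ⊥ ∨ U = ⊤ := by
    intro U hU
    refine or_iff_not_imp_left.2 fun hUb => ?_
    let T : AddSubgroup V := ⨆ g : X, (U.map W.subtype).map (ρ g)
    have hT : Inv ρ T := by
      intro k x hx
      have : T ≤ T.comap (ρ k) := iSup_le fun g y hy => by
        obtain ⟨u, hu, rfl⟩ := hy
        exact le_iSup (fun g : X => (U.map W.subtype).map (ρ g)) (k * g)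
          ⟨u, hu, map_mul_apply ρ k g u⟩
      exact this hx
    have hTtop : T = ⊤ := by
      refine (hirr T hT).resolve_left fun h => hUb ((AddSubgroup.eq_bot_iff_forall _).2 fun u hu => ?_)
      have : (u : V) ∈ T := le_iSup (fun g : X => (U.map W.subtype).map (ρ g)) 1
        ⟨u, ⟨u, hu, rfl⟩, by rw [map_one]; rfl⟩
      rw [h] at this
      exact Subtype.ext this
    have hle : T ≤ (U.map W.subtype).comap (e i₀) := iSup_le fun g y hy => by
      obtain ⟨_, ⟨u, hu, rfl⟩, rfl⟩ := hy
      show e i₀ (ρ g (u : V)) ∈ U.map W.subtype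
      by_cases hg : σ g i₀ = i₀
      · refine ⟨_, hU ⟨g, hg⟩ u hu, ?_⟩
        show ρ g (u : V) = _
        rw [← hWfix _ u.2, hσ', hg, hid]
      · rw [← hWfix _ u.2, hσ', hor _ _ _ (Ne.symm hg)]
        exact zero_mem _
    refine eq_top_iff.2 fun x _ => ?_
    obtain ⟨u, hu, hux⟩ := hle (hTtop ▸ AddSubgroup.mem_top (x : V))
    have hux' : (u : V) = e i₀ (x : V) := hux
    rw [hWfix _ x.2] at hux'
    exact Subtype.ext hux' ▸ hu
  haveI := hX
  obtain ⟨p, hp⟩ := exists_five_triples (res (ρ.comp H.subtype) W hHW) inferInstance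
    (IH H inferInstance W hWlt _ (cr_of_irreducible _ hirrW))
  choose t ht using htr
  let col : ι → Fin 5 := col5 0
  let v : Fin 3 → V := fun k => ∑ i, ρ (t i) (p (col i) k : W)
  have comp : ∀ (f : ι → W) i, e i (∑ k, ρ (t k) (f k : V)) = ρ (t i) (f i : V) := by
    intro f i
    rw [map_sum, Finset.sum_eq_single i]
    · rw [← hWfix _ (f i).2, hσ', ht, hid]
    · intro k _ hk
      rw [← hWfix _ (f k).2, hσ', ht, hor _ _ _ (Ne.symm hk)]
    · exact fun h => absurd (Finset.mem_univ i) h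
  refine ⟨v 0, v 1, v 2, fun g h0 h1' h2 => ?_⟩
  have hgv : ∀ k, ρ g (v k) = v k := fun k => by fin_cases k <;> assumption
  have key : ∀ i, col i = col (σ g i) ∧
      ∀ x ∈ W, ρ g (ρ (t i) x) = ρ (t (σ g i)) x := by
    intro i
    have hh : σ ((t (σ g i))⁻¹ * g * t i) i₀ = i₀ := by
      rw [map_mul, map_mul, map_inv, Equiv.Perm.mul_apply, Equiv.Perm.mul_apply, ht,
        Equiv.Perm.inv_eq_iff_eq, ht]
    have h1 : ∀ (f : ι → W), ρ g (∑ k, ρ (t k) (f k : V)) = ∑ k, ρ (t k) (f k : V) →
        res (ρ.comp H.subtype) W hHW ⟨_, hh⟩ (f i) = f (σ g i) := fun f hf => Subtype.ext (by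
      show ρ ((t (σ g i))⁻¹ * g * t i) (f i : V) = f (σ g i)
      rw [map_mul_apply, map_mul_apply, ← comp f i, hσ', hf, comp, inv_apply])
    obtain ⟨hc, hone⟩ := hp (col i) (col (σ g i)) ⟨_, hh⟩
      fun k => h1 (fun l => p (col l) k) (hgv k)
    refine ⟨hc, fun x hx => ?_⟩
    have := congrArg (fun f : AddMonoid.End W => ((f ⟨x, hx⟩ : W) : V)) hone
    simp only [res_apply, MonoidHom.comp_apply, Subgroup.coe_subtype, one_apply'] at this
    rw [map_mul_apply, map_mul_apply] at this
    conv_rhs => rw [← this]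
    rw [apply_inv]
  have hσg : σ g = 1 := (hcol5 0 0 g fun i => (key i).1.symm).2
  refine ext_end fun x => ?_
  rw [one_apply', ← hdec x, map_sum]
  refine Finset.sum_congr rfl fun i _ => ?_
  obtain ⟨y, hy, hyi⟩ : ∃ y ∈ W, ρ (t i) y = e i x := by
    refine ⟨e i₀ (ρ (t i)⁻¹ x), ⟨_, rfl⟩, ?_⟩
    rw [hσ', ht, apply_inv]
  rw [← hyi, (key i).2 y hy, hσg, Equiv.Perm.one_apply]

end CfsgLib.SolBase
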