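import Cfsg.Agent.Lib.OddBase.Normalize

/-!
# Symplectic bases adapted to a class of good vectors, and normalized pairs
-/

set_option autoImplicit false

namespace CfsgLib.SolBase

open CfsgLib.LinearPPart

/-- A hyperbolic basis with good first members, except for at most one plane of bad vectors. -/
theorem exists_good_pairs {q : ℕ} [hq : Fact q.Prime] : ∀ (W : Type*) [AddCommGroup W] [Finite W]
    (c : W →+ W →+ ZMod q), (∀ w, c w w = 0) → (∀ w, (∀ x, c w x = 0) → w = 0) →
    ∀ P : W → Prop, (∀ w w', w ≠ 0 → w' ≠ 0 → w + w' ≠ 0 → c w w' = 0 → ¬ P w → ¬ P w' →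
      P (w + w')) →
    ∃ (s : ℕ) (e f : Fin s → W) (R : Set W), (∀ i, c (e i) (f i) = 1) ∧
      (∀ i j, c (e i) (e j) = 0) ∧ (∀ i j, c (f i) (f j) = 0) ∧
      (∀ i j, i ≠ j → c (e i) (f j) = 0) ∧ (∀ i, P (e i)) ∧
      (R = ∅ ∨ ∃ v u, R = {v, u} ∧ c v u = 1 ∧ ¬ P v ∧ ¬ P u ∧ ¬ P (v + u) ∧
        ∀ i, c (e i) v = 0 ∧ c (e i) u = 0 ∧ c (f i) v = 0 ∧ c (f i) u = 0) ∧
      AddSubmonoid.closure (Set.range e ∪ Set.range f ∪ R) = ⊤ := by
  intro W _ _ c halt hnd P hP
  induction h : Nat.card W using Nat.strong_induction_on generalizing W with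
  | _ n ih =>
  by_cases hW : Subsingleton W
  · exact ⟨0, Fin.elim0, Fin.elim0, ∅, fun i => i.elim0, fun i => i.elim0, fun i => i.elim0,
      fun i => i.elim0, fun i => i.elim0, Or.inl rfl,
      eq_top_iff.2 fun x _ => by rw [Subsingleton.elim x 0]; exact zero_mem _⟩
  rw [not_subsingleton_iff_nontrivial] at hW
  by_cases hgood : ∃ v : W, v ≠ 0 ∧ P v
  · obtain ⟨v, hv, hPv⟩ := hgood
    obtain ⟨u, hvu⟩ := exists_pair c halt hnd hv
    have hlt : Nat.card (perp c v u) < n := by
      rw [← h, card_perp c halt hvu]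
      exact lt_mul_of_one_lt_left Nat.card_pos (Nat.one_lt_pow two_ne_zero hq.out.one_lt)
    obtain ⟨s, e, f, R, hef, hee, hff, hoff, hPe, hR, hspan⟩ := ih _ hlt (perp c v u) (perpForm c v u)
      (fun w => halt _)
      (fun w hw => Subtype.ext (perp_nondeg c halt hnd hvu w.2 fun x hx => hw ⟨x, hx⟩))
      (fun w => P w)
      (fun w w' h1 h2 h3 h4 h5 h6 => hP w w' (fun z => h1 (Subtype.ext z))
        (fun z => h2 (Subtype.ext z)) (fun z => h3 (Subtype.ext z)) h4 h5 h6) rfl
    have hv0 : ∀ w : perp c v u, c v (w : W) = 0 := fun w => (mem_perp.mp w.2).1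
    have hu0 : ∀ w : perp c v u, c u (w : W) = 0 := fun w => (mem_perp.mp w.2).2
    have hv0' : ∀ w : perp c v u, c (w : W) v = 0 := fun w => by rw [form_anti c halt v, hv0, neg_zero]
    have hu0' : ∀ w : perp c v u, c (w : W) u = 0 := fun w => by rw [form_anti c halt u, hu0, neg_zero]
    refine ⟨s + 1, Fin.cons v fun i => (e i : W), Fin.cons u fun i => (f i : W), Subtype.val '' R,
      ?_, ?_, ?_, ?_, ?_, ?_, ?_⟩
    · intro i
      refine Fin.cases ?_ (fun i => ?_) i
      · simpa using hvu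
      · simpa [perpForm_apply] using hef i
    · intro i j
      refine Fin.cases ?_ (fun i => ?_) i <;> refine Fin.cases ?_ (fun j => ?_) j <;>
        simp only [Fin.cons_zero, Fin.cons_succ]
      exacts [halt v, hv0 _, hv0' _, hee i j]
    · intro i j
      refine Fin.cases ?_ (fun i => ?_) i <;> refine Fin.cases ?_ (fun j => ?_) j <;>
        simp only [Fin.cons_zero, Fin.cons_succ]
      exacts [halt u, hu0 _, hu0' _, hff i j]
    · intro i j
      refine Fin.cases ?_ (fun i => ?_) i <;> refine Fin.cases ?_ (fun j => ?_) j <;>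
        simp only [Fin.cons_zero, Fin.cons_succ] <;> intro hij
      exacts [absurd rfl hij, hv0 _, hu0' _, hoff i j fun e => hij (by rw [e])]
    · intro i
      refine Fin.cases ?_ (fun i => ?_) i
      · simpa using hPv
      · simpa using hPe i
    · rcases hR with rfl | ⟨a, b, rfl, hab, ha, hb, hab', horth⟩
      · exact Or.inl (Set.image_empty _)
      · refine Or.inr ⟨a, b, Set.image_pair _ _ _, hab, ha, hb, hab', fun i => ?_⟩
        refine Fin.cases ?_ (fun i => ?_) i
        · simp only [Fin.cons_zero]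
          exact ⟨hv0 _, hv0 _, hu0 _, hu0 _⟩
        · simp only [Fin.cons_succ]
          exact horth i
    · refine eq_top_iff.2 fun w _ => ?_
      set S := AddSubmonoid.closure
        (Set.range (Fin.cons v fun i => (e i : W)) ∪ Set.range (Fin.cons u fun i => (f i : W)) ∪
          Subtype.val '' R)
      obtain ⟨a, b, hab⟩ := sub_mem_perp c halt hvu w
      have hv' : v ∈ S := AddSubmonoid.subset_closure (Or.inl (Or.inl ⟨0, rfl⟩))
      have hu' : u ∈ S := AddSubmonoid.subset_closure (Or.inl (Or.inr ⟨0, rfl⟩))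
      have hperp : ∀ x : perp c v u, (x : W) ∈ S := fun x => by
        have hx : x ∈ AddSubmonoid.closure (Set.range e ∪ Set.range f ∪ R) := hspan ▸ trivial
        induction hx using AddSubmonoid.closure_induction with
        | mem y hy =>
          rcases hy with (⟨i, rfl⟩ | ⟨i, rfl⟩) | hy
          · exact AddSubmonoid.subset_closure (Or.inl (Or.inl ⟨i.succ, rfl⟩))
          · exact AddSubmonoid.subset_closure (Or.inl (Or.inr ⟨i.succ, rfl⟩))
          · exact AddSubmonoid.subset_closure (Or.inr ⟨y, hy, rfl⟩)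
        | zero => exact zero_mem _
        | add y z _ _ hy hz => exact add_mem hy hz
      have := add_mem (hperp ⟨_, hab⟩) (add_mem (nsmul_mem hv' a) (nsmul_mem hu' b))
      simpa using this
  · -- all non-zero vectors are bad: the space is a plane
    push Not at hgood
    obtain ⟨v, hv⟩ := exists_ne (0 : W)
    obtain ⟨u, hvu⟩ := exists_pair c halt hnd hv
    have hbad : ∀ w, c v w = 0 → c u w = 0 → w = 0 := by
      intro w h1 h2
      by_contra hw
      have hvw : v + w ≠ 0 := fun z => by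
        have := congrArg (c u) z
        rw [map_add, h2, add_zero, map_zero, form_anti c halt v u, hvu] at this
        exact one_ne_zero (neg_eq_zero.1 this)
      exact hgood _ hvw (hP v w hv hw hvw h1 (hgood v hv) (hgood w hw))
    have hu : u ≠ 0 := fun z => by rw [z, map_zero] at hvu; exact zero_ne_one hvu
    have hvu' : v + u ≠ 0 := fun z => by
      have := congrArg (c v) z
      rw [map_add, halt, zero_add, map_zero, hvu] at this
      exact one_ne_zero this
    refine ⟨0, Fin.elim0, Fin.elim0, {v, u}, fun i => i.elim0, fun i => i.elim0, fun i => i.elim0,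
      fun i => i.elim0, fun i => i.elim0,
      Or.inr ⟨v, u, rfl, hvu, hgood v hv, hgood u hu, hgood _ hvu', fun i => i.elim0⟩, ?_⟩
    refine eq_top_iff.2 fun w _ => ?_
    obtain ⟨a, b, hab⟩ := sub_mem_perp c halt hvu w
    have h0 := hbad _ (mem_perp.mp hab).1 (mem_perp.mp hab).2
    rw [sub_eq_zero] at h0
    set S := AddSubmonoid.closure
      (Set.range (Fin.elim0 : Fin 0 → W) ∪ Set.range (Fin.elim0 : Fin 0 → W) ∪ {v, u})
    have hv' : v ∈ S := AddSubmonoid.subset_closure (Or.inr (Or.inl rfl))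
    have hu' : u ∈ S := AddSubmonoid.subset_closure (Or.inr (Or.inr rfl))
    rw [h0]
    exact add_mem (nsmul_mem hv' a) (nsmul_mem hu' b)

variable {F : Type*} [Field F] [Finite F] {V : Type*} [AddCommGroup V] (σ : F →+* AddMonoid.End V)
  {q : ℕ} [hq : Fact q.Prime]


/-- From a twisted pair whose first member has a root as its power, a normalized pair. -/
theorem exists_normal_pair_root {ζ γ : F}
    {u v : AddMonoid.End V} (hσu : ∀ r, Commute (σ r) u) (hσv : ∀ r, Commute (σ r) v)
    (huv : u * v = σ ζ * (v * u)) {α β : F} (hα : α ≠ 0) (hβ : β ≠ 0) (hu : u ^ q = σ β)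
    (hv : v ^ q = σ α) (hγ : γ ≠ 0) (hγq : γ ^ q = β) :
    ∃ (x z : AddMonoid.End V) (δ : F), δ ≠ 0 ∧ x ^ q = 1 ∧ z ^ q = σ δ ∧ x * z = σ ζ * (z * x) ∧
      (∀ r, Commute (σ r) x) ∧ (∀ r, Commute (σ r) z) ∧
      (∀ g, (∀ r, Commute g (σ r)) → Commute g u → Commute g v → Commute g x ∧ Commute g z) ∧
      ∀ P : AddMonoid.End V → Prop, (∀ r, P (σ r)) → (∀ a b, P a → P b → P (a * b)) →
        ((P u → P v → P x ∧ P z) ∧ (P x → P z → P u ∧ P v)) := by
  refine ⟨σ γ⁻¹ * u, v, α, hα, ?_, hv, ?_, fun r => ((Commute.all r _).map σ).mul_right (hσu r),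
    hσv, fun g hg hgu hgv => ⟨(hg _).mul_right hgu, hgv⟩, fun P hP hm => ⟨?_, ?_⟩⟩
  · rw [(hσu _).mul_pow, ← map_pow, hu, ← map_mul, inv_pow, hγq, inv_mul_cancel₀ hβ, map_one]
  · rw [mul_assoc (σ γ⁻¹) u v, huv, ← mul_assoc (σ γ⁻¹) (σ ζ), ← map_mul, mul_comm γ⁻¹, map_mul,
      mul_assoc, ← mul_assoc (σ γ⁻¹) v u, (hσv γ⁻¹).eq, mul_assoc v]
  · exact fun h1 h2 => ⟨hm _ _ (hP _) h1, h2⟩
  · intro h1 h2
    refine ⟨?_, h2⟩
    have := hm _ _ (hP γ) h1
    rwa [← mul_assoc, ← map_mul, mul_inv_cancel₀ hγ, map_one, one_mul] at this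

/-- A product of two non-squares of a finite field is a square. -/
theorem isSquare_mul_of_not {K : Type*} [Field K] [Finite K] {a b : K} (ha : ¬ IsSquare a)
    (hb : ¬ IsSquare b) : IsSquare (a * b) := by
  classical
  letI : Fintype K := Fintype.ofFinite K
  have h1 := quadraticChar_neg_one_iff_not_isSquare.2 ha
  have h2 := quadraticChar_neg_one_iff_not_isSquare.2 hb
  have ha0 : a ≠ 0 := fun h => ha (h ▸ IsSquare.zero)
  have hb0 : b ≠ 0 := fun h => hb (h ▸ IsSquare.zero)
  exact (quadraticChar_one_iff_isSquare (mul_ne_zero ha0 hb0)).1 (by rw [map_mul, h1, h2]; norm_num)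

end CfsgLib.SolBase
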