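import Cfsg.Agent.Lib.OddBase.Monomial
import Cfsg.Agent.Lib.SolBase.Pattern

/-!
# Two vectors forcing a normaliser of a Heisenberg configuration to centralize it

The monomials may carry an extra factor from a monoid `E` of operators commuting with the
configuration and having no eigenvectors except scalars.
-/

set_option autoImplicit false

universe u

namespace CfsgLib.SolBase

open CfsgLib.OddBase (Heis)
open CfsgLib.OddBase.Heis (red lift dot vec_induction red_zero red_add red_single red_lift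
  dot_zero_right dot_add_right dot_single_right comm_apply)

variable {F : Type u} [Field F] {V : Type u} [AddCommGroup V] {q s : ℕ} [hq : Fact q.Prime]
  (D : Heis F V q s) (E : Submonoid (AddMonoid.End V))

/-- A monoid of extra operators. -/
structure Extra : Prop where
  scal : ∀ r, D.sc r ∈ E
  comm_sc : ∀ e ∈ E, ∀ r, Commute e (D.sc r)
  comm_x : ∀ e ∈ E, ∀ i, Commute e (D.x i)
  comm_z : ∀ e ∈ E, ∀ i, Commute e (D.z i)
  eigen : ∀ e ∈ E, ∀ (r : F) (v : V), v ≠ 0 → e v = D.sc r v → e = D.sc r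

/-- A monomial times an extra operator. -/
def EMon (f : AddMonoid.End V) (L : Fin s → ZMod q) : Prop :=
  ∃ m e, D.Mon m L ∧ e ∈ E ∧ f = m * e

variable {D E}

theorem EMon.of_mon {f : AddMonoid.End V} {L : Fin s → ZMod q} (h : D.Mon f L) : EMon D E f L :=
  ⟨f, 1, h, E.one_mem, (mul_one f).symm⟩

theorem Extra.comm_X (hE : Extra D E) {e : AddMonoid.End V} (he : e ∈ E) (k : Fin s → ℕ) :
    Commute e (D.X k) := by
  refine vec_induction (P := fun k => Commute e (D.X k)) (by rw [D.X_zero]; exact Commute.one_right _)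
    (fun a b ha hb => by rw [D.X_add]; exact ha.mul_right hb)
    (fun i n => by rw [D.X_single]; exact (hE.comm_x e he i).pow_right n) k

theorem Extra.comm_Z (hE : Extra D E) {e : AddMonoid.End V} (he : e ∈ E) (k : Fin s → ℕ) :
    Commute e (D.Z k) := by
  refine vec_induction (P := fun k => Commute e (D.Z k)) (by rw [D.Z_zero]; exact Commute.one_right _)
    (fun a b ha hb => by rw [D.Z_add]; exact ha.mul_right hb)
    (fun i n => by rw [D.Z_single]; exact (hE.comm_z e he i).pow_right n) k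

theorem Extra.comm_mon (hE : Extra D E) {e m : AddMonoid.End V} (he : e ∈ E)
    {L : Fin s → ZMod q} (hm : D.Mon m L) : Commute e m := by
  obtain ⟨κ, k, l, rfl, -⟩ := hm
  exact (hE.comm_sc e he κ).mul_right ((hE.comm_X he k).mul_right (hE.comm_Z he l))

theorem EMon.mul (hE : Extra D E) {f g : AddMonoid.End V} {L M : Fin s → ZMod q}
    (hf : EMon D E f L) (hg : EMon D E g M) : EMon D E (f * g) (L + M) := by
  obtain ⟨m, e, hm, he, rfl⟩ := hf
  obtain ⟨m', e', hm', he', rfl⟩ := hg
  refine ⟨m * m', e * e', hm.mul D hm', E.mul_mem he he', ?_⟩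
  rw [mul_assoc m e, ← mul_assoc e m', (hE.comm_mon he hm').eq, mul_assoc m' e, ← mul_assoc m]

theorem Extra.mem_U (hE : Extra D E) {e : AddMonoid.End V} (he : e ∈ E) {u : V} (hu : u ∈ D.U) :
    e u ∈ D.U := fun i => by
  rw [← comm_apply (hE.comm_x e he i), hu i]

theorem EMon.apply_slot (hE : Extra D E) {f : AddMonoid.End V} {L : Fin s → ZMod q}
    (hf : EMon D E f L) : ∃ ε ∈ E, ∀ u ∈ D.U, f u = D.slot L (ε u) := by
  obtain ⟨m, e, ⟨κ, k, l, rfl, rfl⟩, he, rfl⟩ := hf
  obtain ⟨d, -, hd⟩ := D.Z_reduce l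
  refine ⟨D.sc (κ * (D.ψ (dot (red q k) (red q l)) * d)) * e, E.mul_mem (hE.scal _) he,
    fun u hu => ?_⟩
  show D.sc κ (D.X k (D.Z l (e u))) = D.Z (lift (red q l)) (D.sc _ (e u))
  rw [D.X_Z_fix k l (hE.mem_U he hu), hd, ← comm_apply (D.commute_Z_sc _ _), D.sc_apply_mul,
    D.sc_apply_mul]
  rfl

theorem EMon.Z_conj (hE : Extra D E) (G : AddMonoid.End V) (L : Fin s → Fin s → ZMod q)
    (hz : ∀ i, ∃ f, EMon D E f (L i) ∧ G * D.z i = f * G) (m : Fin s → ℕ) :
    ∃ f, EMon D E f (∑ i, (m i : ZMod q) • L i) ∧ G * D.Z m = f * G := by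
  refine vec_induction (P := fun m => ∃ f, EMon D E f (∑ i, (m i : ZMod q) • L i) ∧ G * D.Z m = f * G)
    ?_ (fun a b ha hb => ?_) (fun i n => ?_) m
  · refine ⟨1, ?_, by rw [D.Z_zero, mul_one, one_mul]⟩
    simpa using (EMon.of_mon (D.mon_sc 1) : EMon D E _ _)
  · obtain ⟨f, hf, ef⟩ := ha
    obtain ⟨g, hg, eg⟩ := hb
    refine ⟨f * g, ?_, by rw [D.Z_add, ← mul_assoc, ef, mul_assoc, eg, mul_assoc]⟩
    have := hf.mul hE hg
    rw [← Finset.sum_add_distrib] at this
    simpa [add_smul] using this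
  · rw [D.Z_single]
    have hs : ∀ n : ℕ, ∑ k, ((Pi.single i n : Fin s → ℕ) k : ZMod q) • L k = (n : ZMod q) • L i := by
      intro n
      rw [Finset.sum_eq_single i]
      · rw [Pi.single_eq_same]
      · intro k _ hk; rw [Pi.single_eq_of_ne hk, Nat.cast_zero, zero_smul]
      · exact fun h => absurd (Finset.mem_univ i) h
    rw [hs]
    induction n with
    | zero =>
      exact ⟨1, by simpa using (EMon.of_mon (D.mon_sc 1) : EMon D E _ _),
        by rw [pow_zero, mul_one, one_mul]⟩
    | succ n ih =>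
      obtain ⟨f, hf, ef⟩ := ih
      obtain ⟨g, hg, eg⟩ := hz i
      refine ⟨f * g, ?_, by rw [pow_succ, ← mul_assoc, ef, mul_assoc, eg, mul_assoc]⟩
      have := hf.mul hE hg
      rwa [Nat.cast_succ, add_smul, one_smul]

/-- The two vectors. -/
theorem exists_rigid_vectors [Finite V] [Finite F] (hs : 0 < s) (hE : Extra D E)
    {a b b' : V} (ha : a ∈ D.U) (ha0 : a ≠ 0) (hb : b ∈ D.U) (hb' : b' ∈ D.U) :
    ∃ w w' : V, ∀ (G G' : AddMonoid.End V) (α : F →+* F), G' * G = 1 →
      (∀ r, G * D.sc r = D.sc (α r) * G) → (∀ i, ∃ f L, EMon D E f L ∧ G * D.x i = f * G) →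
      (∀ i, ∃ f L, EMon D E f L ∧ G * D.z i = f * G) → G a = a → G w = w → G w' = w' →
      (∀ r, Commute G (D.sc r)) ∧ (∀ i, Commute G (D.x i)) ∧ (∀ i, Commute G (D.z i)) ∧
        G b = b ∧ G b' = b' := by
  classical
  haveI : Fact (1 < q) := ⟨hq.out.one_lt⟩
  haveI : NeZero q := ⟨hq.out.ne_zero⟩
  obtain ⟨γ, hγ⟩ := IsCyclic.exists_monoid_generator (α := Fˣ)
  set θ : F := (γ : F) with hθdef
  have hθ : ∀ r : F, r ≠ 0 → ∃ n : ℕ, θ ^ n = r := fun r hr => by
    obtain ⟨n, hn⟩ := Submonoid.mem_powers_iff _ _ |>.1 (hγ (Units.mk0 r hr))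
    exact ⟨n, by rw [hθdef, ← Units.val_pow_eq_pow_val, hn]; rfl⟩
  have hθ0 : θ ≠ 0 := γ.ne_zero
  have hθ1 : θ ≠ 1 := by
    intro e
    obtain ⟨n, hn⟩ := hθ D.ξ (D.hξ.ne_zero hq.out.ne_zero)
    rw [e, one_pow] at hn
    exact D.hξ.ne_one hq.out.one_lt hn.symm
  obtain ⟨A, B, T, hA0, hB0, hT0, hAB, hAT, hBT, hTne, hrig⟩ := exists_pattern (q := q) hs
  let f₁ : (Fin s → ZMod q) → V := fun c => if c = 0 then b else if c ∈ A then 0 else a
  let f₂ : (Fin s → ZMod q) → V := fun c =>
    if c = 0 then b' else if c ∈ B then 0 else if c ∈ T then D.sc θ a else a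
  have hf₁U : ∀ c, f₁ c ∈ D.U := fun c => by
    simp only [f₁]; split_ifs
    exacts [hb, D.U.zero_mem, ha]
  have hf₂U : ∀ c, f₂ c ∈ D.U := fun c => by
    simp only [f₂]; split_ifs
    exacts [hb', D.U.zero_mem, D.sc_mem ha θ, ha]
  refine ⟨∑ c, D.slot c (f₁ c), ∑ c, D.slot c (f₂ c), ?_⟩
  intro G G' α hG'G hGsc hGx hGz hGa hG1 hG2
  have hG'inj : Function.Injective G := fun v w e => by
    have := congrArg G' e
    rwa [show G' (G v) = (G' * G) v from rfl, show G' (G w) = (G' * G) w from rfl, hG'G] at this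
  have appG : ∀ {f g : AddMonoid.End V}, G * f = g * G → ∀ v, G (f v) = g (G v) := fun {f g} e v =>
    congrArg (fun k : AddMonoid.End V => k v) e
  -- the diagonal operators
  have hX : ∀ i, ∃ k : Fin s → ℕ, G * D.x i = D.X k * G := by
    intro i
    obtain ⟨f, L, hf, ef⟩ := hGx i
    have hfa : f a = a := by
      have := appG ef a
      rw [ha i, hGa] at this
      exact this.symm
    obtain ⟨ε, hε, hρ⟩ := hf.apply_slot hE
    have e1 := hρ a ha
    rw [hfa] at e1
    have hL : L = 0 := (D.slot_index_eq (d := L) ha (hE.mem_U hε ha)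
      (by rw [D.slot_zero]; exact e1) ha0).symm
    subst hL
    obtain ⟨m, e, ⟨κ, k, l, rfl, hl⟩, he, rfl⟩ := hf
    obtain ⟨d, -, hd⟩ := D.Z_reduce l
    have hl0 : lift (red q l) = 0 := by rw [hl]; exact funext fun i => ZMod.val_zero
    rw [hl0, D.Z_zero, mul_one] at hd
    have hfe : D.sc κ * (D.X k * D.Z l) = D.sc (κ * d) * D.X k := by
      rw [hd, ← (D.commute_X_sc d k).eq, ← mul_assoc, map_mul]
    rw [hfe] at ef hfa
    have h1 : D.sc (κ * d) (e a) = a := by
      have : D.sc (κ * d) (D.X k (e a)) = a := hfa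
      rwa [D.X_fix k (hE.mem_U he ha)] at this
    have hκ : κ * d ≠ 0 := fun h => by
      rw [h, map_zero D.sc] at h1
      exact ha0 h1.symm
    have he' : e = D.sc (κ * d)⁻¹ := hE.eigen e he _ a ha0 (by
      conv_rhs => rw [← h1, D.sc_inv_apply hκ])
    refine ⟨k, ?_⟩
    rw [ef, he', mul_assoc (D.sc (κ * d)) (D.X k), ← (D.commute_X_sc _ k).eq,
      ← mul_assoc (D.sc (κ * d)), ← map_mul, mul_inv_cancel₀ hκ, map_one, one_mul]
  choose K hK using hX
  have hsub : ∀ v, G v ∈ D.U → v ∈ D.U := fun v hv i => hG'inj (by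
    rw [appG (hK i) v]; exact D.X_fix _ hv)
  have hUmap : ∀ u ∈ D.U, G u ∈ D.U := by
    intro u hu
    -- the inverse image of the space lies in it, hence equality
    let g : {v : V // G v ∈ D.U} → D.U := fun v => ⟨v, hsub v v.2⟩
    have h1 : Function.Bijective (fun v : {v : V // G v ∈ D.U} => (⟨G v, v.2⟩ : D.U)) := by
      refine ⟨fun v w e => Subtype.ext (hG'inj (congrArg Subtype.val e)), fun y => ?_⟩
      obtain ⟨v, hv⟩ := (Finite.surjective_of_injective hG'inj) y.1
      exact ⟨⟨v, hv ▸ y.2⟩, Subtype.ext hv⟩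
    have hgs : Function.Surjective g := by
      refine (Function.Injective.bijective_of_nat_card_le (f := g)
        (fun v w e => Subtype.ext (congrArg (fun y : D.U => (y : V)) e)) ?_).2
      rw [Nat.card_eq_of_bijective _ h1]
    obtain ⟨v, hv⟩ := hgs ⟨u, hu⟩
    have := v.2
    rwa [show (v : V) = u from congrArg (fun y : D.U => (y : V)) hv] at this
  choose Fz L hFz hzG using hGz
  let h : (Fin s → ZMod q) →+ (Fin s → ZMod q) :=
    AddMonoidHom.mk' (fun c => ∑ i, c i • L i) fun c d => by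
      simp [add_smul, Finset.sum_add_distrib]
  have hslot : ∀ c, ∃ ε ∈ E, ∀ u ∈ D.U, G (D.slot c u) = D.slot (h c) (ε (G u)) := by
    intro c
    obtain ⟨f, hf, ef⟩ := EMon.Z_conj hE G L (fun i => ⟨Fz i, hFz i, hzG i⟩) (lift c)
    have hh : ∑ i, ((lift c i : ℕ) : ZMod q) • L i = h c := by
      show _ = ∑ i, c i • L i
      simp [lift]
    rw [hh] at hf
    obtain ⟨r, hr, hr'⟩ := hf.apply_slot hE
    exact ⟨r, hr, fun u hu => (appG ef u).trans (hr' _ (hUmap u hu))⟩
  choose R hRE hR using hslot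
  have hh0 : ∀ c, h c = 0 → c = 0 := by
    intro c hc
    have e := hR c a ha
    rw [hc, D.slot_zero, hGa] at e
    have hm : D.slot c a ∈ D.U := hsub _ (e ▸ hE.mem_U (hRE c) ha)
    exact D.slot_index_eq (d := 0) ha hm (by rw [D.slot_zero]; rfl) ha0
  have hhinj : Function.Injective h := (injective_iff_map_eq_zero h).2 hh0
  have hcomp : ∀ f : (Fin s → ZMod q) → V, (∀ c, f c ∈ D.U) →
      G (∑ c, D.slot c (f c)) = ∑ c, D.slot c (f c) → ∀ c, R c (G (f c)) = f (h c) := by
    intro f hfU hGf c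
    have e := congrArg (D.projHom (h c)) hGf
    rw [map_sum, map_sum, map_sum] at e
    have e1 : ∀ d, D.projHom (h c) (G (D.slot d (f d))) =
        if d = c then D.slot (h c) (R c (G (f c))) else 0 := by
      intro d
      show D.proj (h c) _ = _
      rw [hR d _ (hfU d), D.proj_slot _ _ (hE.mem_U (hRE d) (hUmap _ (hfU d)))]
      by_cases hdc : d = c
      · subst hdc; simp
      · rw [if_neg fun e => hdc (hhinj e), if_neg hdc]
    have e2 : ∀ d, D.projHom (h c) (D.slot d (f d)) =
        if d = h c then D.slot (h c) (f (h c)) else 0 := by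
      intro d
      show D.proj (h c) _ = _
      rw [D.proj_slot _ _ (hfU d)]
      by_cases hdc : d = h c
      · subst hdc; simp
      · rw [if_neg hdc, if_neg hdc]
    simp only [e1, e2, Finset.sum_ite_eq', Finset.mem_univ, if_true] at e
    rw [← sub_eq_zero, ← map_sub] at e
    exact sub_eq_zero.1 (D.slot_injective _ e)
  have c₁ := hcomp f₁ hf₁U hG1
  have c₂ := hcomp f₂ hf₂U hG2
  have hRone : ∀ c, R c a = a → R c = 1 := fun c e => by
    rw [hE.eigen _ (hRE c) 1 a ha0 (by rw [D.sc_one_apply]; exact e), map_one]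
  have hRne : ∀ c, R c a ≠ 0 := fun c e => by
    have := hR c a ha
    rw [hGa, e, map_zero] at this
    exact ha0 (D.slot_injective c (hG'inj (this.trans (map_zero G).symm)))
  have hne0 : ∀ c, c ≠ 0 → h c ≠ 0 := fun c hc e => hc (hh0 c e)
  have hR1 : ∀ c, R c = 1 := by
    intro c
    refine hRone c ?_
    by_cases hc : c = 0
    · subst hc
      have e := hR 0 a ha
      rw [map_zero h, D.slot_zero, hGa] at e
      exact (e.symm.trans hGa)
    by_cases hcA : c ∈ A
    · have e₁ := c₁ c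
      simp only [f₁, if_neg hc, if_pos hcA, map_zero, if_neg (hne0 c hc)] at e₁
      have hhA : h c ∈ A := by
        by_contra hn
        rw [if_neg hn] at e₁
        exact ha0 e₁.symm
      have e₂ := c₂ c
      simp only [f₂, if_neg hc, if_neg (hne0 c hc), if_neg (Set.disjoint_left.1 hAB hcA),
        if_neg (Set.disjoint_left.1 hAT hcA), if_neg (Set.disjoint_left.1 hAB hhA),
        if_neg (Set.disjoint_left.1 hAT hhA), hGa] at e₂
      exact e₂
    · have e₁ := c₁ c
      simp only [f₁, if_neg hc, if_neg hcA, hGa, if_neg (hne0 c hc)] at e₁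
      split_ifs at e₁
      · exact absurd e₁ (hRne c)
      · exact e₁
  have hR' : ∀ c, ∀ u ∈ D.U, G (D.slot c u) = D.slot (h c) (G u) := fun c u hu => by
    rw [hR c u hu, hR1]; rfl
  have d₁ : ∀ c, G (f₁ c) = f₁ (h c) := fun c => by rw [← c₁, hR1]; rfl
  have d₂ : ∀ c, G (f₂ c) = f₂ (h c) := fun c => by rw [← c₂, hR1]; rfl
  have hmapA : ∀ c ∈ A, h c ∈ A := fun c hc => by
    have hc0 : c ≠ 0 := fun e => hA0 (e ▸ hc)
    have e := d₁ c
    simp only [f₁, if_neg hc0, if_pos hc, map_zero, if_neg (hne0 c hc0)] at e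
    by_contra hn
    rw [if_neg hn] at e
    exact ha0 e.symm
  have hmapB : ∀ c ∈ B, h c ∈ B := fun c hc => by
    have hc0 : c ≠ 0 := fun e => hB0 (e ▸ hc)
    have e := d₂ c
    simp only [f₂, if_neg hc0, if_pos hc, map_zero, if_neg (hne0 c hc0)] at e
    by_contra hn
    rw [if_neg hn] at e
    split_ifs at e
    · exact hθ0 (D.sc_eq_zero e.symm ha0)
    · exact ha0 e.symm
  have hmapT : ∀ c ∈ T, h c ∈ T ∧ α θ = θ := fun c hc => by
    have hc0 : c ≠ 0 := fun e => hT0 (e ▸ hc)
    have e := d₂ c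
    simp only [f₂, if_neg hc0, if_neg (Set.disjoint_right.1 hBT hc), if_pos hc,
      if_neg (hne0 c hc0), appG (hGsc θ) a, hGa] at e
    split_ifs at e with h1 h2
    · exact absurd (α.injective ((D.sc_eq_zero e ha0).trans (map_zero α).symm)) hθ0
    · exact ⟨h2, D.sc_cancel e ha0⟩
    · refine absurd (α.injective ((?_ : α θ = 1).trans (map_one α).symm)) hθ1
      exact D.sc_cancel (e.trans (D.sc_one_apply a).symm) ha0
  have hid : ∀ c, h c = c := hrig h hhinj hmapA hmapB fun c hc => (hmapT c hc).1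
  have hαid : ∀ r, α r = r := by
    obtain ⟨c, hc⟩ := hTne
    intro r
    by_cases hr : r = 0
    · rw [hr, map_zero]
    · obtain ⟨n, rfl⟩ := hθ r hr
      rw [map_pow, (hmapT c hc).2]
  have hGσ : ∀ r, Commute G (D.sc r) := fun r => by
    show G * D.sc r = D.sc r * G
    rw [hGsc, hαid]
  have hZa : ∀ m : Fin s → ℕ, G (D.Z m a) = D.Z m a := by
    intro m
    obtain ⟨d, -, hd⟩ := D.Z_reduce m
    rw [hd]
    show G (D.sc d (D.slot (red q m) a)) = D.sc d (D.slot (red q m) a)
    rw [comm_apply (hGσ d), hR' _ _ ha, hid, hGa]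
  have hXone : ∀ k : Fin s → ℕ, red q k = 0 → D.X k = 1 := fun k hk =>
    D.eq_of_slots fun c u hu => by
      rw [D.X_slot _ _ hu, hk, show dot (0 : Fin s → ZMod q) c = 0 by simp [dot], D.ψ_zero,
        D.sc_one_apply]
      rfl
  have hZne : ∀ m, D.Z m a ≠ 0 := fun m e => by
    obtain ⟨d, hd0, hd⟩ := D.Z_reduce m
    rw [hd] at e
    exact hd0 (D.sc_eq_zero e fun z => ha0 (D.slot_injective _ z))
  -- the shifting operators
  have hz : ∀ i, Commute G (D.z i) := by
    intro i
    obtain ⟨m, e, ⟨κ, k, l, rfl, hl⟩, he, hfe⟩ := hFz i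
    have hLi : L i = (Pi.single i 1 : Fin s → ZMod q) := by
      refine Eq.trans ?_ (hid (Pi.single i 1))
      show L i = ∑ j, (Pi.single i 1 : Fin s → ZMod q) j • L j
      rw [Finset.sum_eq_single i]
      · rw [Pi.single_eq_same, one_smul]
      · intro j _ hj; rw [Pi.single_eq_of_ne hj, zero_smul]
      · exact fun hm => absurd (Finset.mem_univ i) hm
    obtain ⟨d, -, hd⟩ := D.Z_reduce l
    have hlb : lift (Pi.single i (1 : ZMod q) : Fin s → ZMod q) = Pi.single i 1 := by
      funext k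
      by_cases hk : k = i
      · subst hk; simp [lift, ZMod.val_one]
      · simp [lift, hk]
    rw [hl, hLi, hlb, D.Z_single, pow_one] at hd
    have hm' : D.sc κ * (D.X k * D.Z l) = D.sc (κ * d) * (D.X k * D.z i) := by
      rw [hd, ← mul_assoc (D.X k), ← (D.commute_X_sc d k).eq, map_mul]
      simp only [mul_assoc]
    have hzG' : G * D.z i = D.sc (κ * d) * (D.X k * D.z i) * e * G := by
      rw [hzG i, hfe, hm']
    -- the extra factor is a scalar
    have hza : ∀ u ∈ D.U, (D.X k * D.z i) u = D.sc (D.ψ (red q k i)) (D.z i u) := by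
      intro u hu
      show D.X k (D.z i u) = _
      have := D.X_Z_fix k (Pi.single i 1) hu
      rw [D.Z_single, pow_one, red_single, Nat.cast_one, dot_single_right, mul_one] at this
      exact this
    have hzi : D.z i = D.Z (Pi.single i 1) := by rw [D.Z_single, pow_one]
    have ea : D.sc (κ * d * D.ψ (red q k i)) (e a) = a := by
      have h1 := appG hzG' a
      rw [hGa, show G (D.z i a) = D.z i a by rw [hzi]; exact hZa _] at h1
      have h2 : D.z i a = D.z i (D.sc (κ * d * D.ψ (red q k i)) (e a)) := by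
        refine h1.trans ?_
        show D.sc (κ * d) ((D.X k * D.z i) (e a)) = _
        rw [hza _ (hE.mem_U he ha), ← comm_apply (D.scz _ i), ← D.sc_apply_mul]
      have hinj : ∀ v, D.z i v = 0 → v = 0 := fun v hv => by
        refine D.slot_injective (Pi.single i 1) ?_
        show D.Z (lift _) v = 0
        rw [hlb, ← hzi]; exact hv
      exact (sub_eq_zero.1 (hinj _ (by rw [map_sub, sub_eq_zero]; exact h2))).symm
    have hr0 : κ * d * D.ψ (red q k i) ≠ 0 := fun z => by
      rw [z, map_zero D.sc] at ea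
      exact ha0 ea.symm
    have he' : e = D.sc (κ * d * D.ψ (red q k i))⁻¹ := hE.eigen e he _ a ha0 (by
      conv_rhs => rw [← ea, D.sc_inv_apply hr0])
    set r : F := κ * d * (κ * d * D.ψ (red q k i))⁻¹
    have hG : G * D.z i = D.sc r * (D.X k * D.z i) * G := by
      rw [hzG', he', mul_assoc (D.sc (κ * d)),
        ← (((D.commute_X_sc _ k).mul_right (D.scz _ i)) : Commute (D.sc (κ * d * D.ψ (red q k i))⁻¹) _).eq,
        ← mul_assoc (D.sc (κ * d)), ← map_mul]
    have hval : ∀ m : Fin s → ℕ,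
        r * D.ψ (dot (red q k) (red q (Pi.single i 1 + m))) = 1 := by
      intro m
      have h1 := appG hG (D.Z m a)
      rw [hZa, show D.z i (D.Z m a) = D.Z (Pi.single i 1 + m) a by
        rw [D.Z_add, ← hzi]; rfl, hZa] at h1
      refine D.sc_cancel (v := D.Z (Pi.single i 1 + m) a) ?_ (hZne _)
      rw [D.sc_one_apply]
      refine Eq.trans ?_ h1.symm
      show _ = D.sc r (D.X k (D.z i (D.Z m a)))
      rw [show D.z i (D.Z m a) = D.Z (Pi.single i 1 + m) a by
        rw [D.Z_add, ← hzi]; rfl, D.X_Z_fix _ _ ha, D.sc_apply_mul]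
    have h0 := hval 0
    rw [add_zero] at h0
    have hk : red q k = 0 := funext fun j => by
      have h1 := hval (Pi.single j 1)
      rw [red_add, dot_add_right, D.ψ_add, ← mul_assoc, h0, one_mul, red_single, Nat.cast_one,
        dot_single_right, mul_one] at h1
      exact D.ψ_eq_one h1
    have hr1 : r = 1 := by
      rw [hk, show dot (0 : Fin s → ZMod q) (red q (Pi.single i 1)) = 0 by simp [dot], D.ψ_zero,
        mul_one] at h0
      exact h0
    show G * D.z i = D.z i * G
    rw [hG, hr1, hXone k hk, map_one, one_mul, one_mul]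
  refine ⟨hGσ, fun i => ?_, hz, ?_, ?_⟩
  · have hKi : D.X (K i) = D.x i := by
      have hc : red q (K i) = red q (Pi.single i 1 : Fin s → ℕ) := by
        funext j
        have e1 : G ((D.x i * D.Z (Pi.single j 1)) a) =
            D.sc (D.ψ (red q (Pi.single j 1) i)) (D.Z (Pi.single j 1) a) := by
          rw [D.x_Z]
          show G (D.sc _ (D.Z _ (D.x i a))) = _
          rw [ha i, comm_apply (hGσ _), hZa]
        have e2 : G ((D.x i * D.Z (Pi.single j 1)) a) =
            D.sc (D.ψ (dot (red q (K i)) (red q (Pi.single j 1)))) (D.Z (Pi.single j 1) a) := by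
          show G (D.x i (D.Z (Pi.single j 1) a)) = _
          rw [appG (hK i), hZa]
          exact D.X_Z_fix (K i) (Pi.single j 1) ha
        have := D.ψ_injective (D.sc_cancel (e1.symm.trans e2) (hZne _))
        rw [red_single, Nat.cast_one, dot_single_right, mul_one] at this
        rw [← this, red_single, Nat.cast_one]
        simp [Pi.single_apply, eq_comm]
      rw [← pow_one (D.x i), ← D.X_single]
      exact D.eq_of_slots fun c u hu => by rw [D.X_slot _ _ hu, D.X_slot _ _ hu, hc]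
    exact (hK i).trans (by rw [hKi])
  · have := d₁ 0
    simpa only [f₁, map_zero h, if_pos] using this
  · have := d₂ 0
    simpa only [f₂, map_zero h, if_pos] using this

end CfsgLib.SolBase
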