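import Cfsg.Agent.Lib.LinearPPart.Main
import Cfsg.Agent.Lib.SolBase.Induced
import Cfsg.Agent.Lib.SolBase.Stab
import Cfsg.Agent.Lib.SolBase.Normalize
import Cfsg.Agent.Lib.SolBase.Small

/-!
# Three vectors for a primitive solvable group
-/

set_option autoImplicit false
set_option maxHeartbeats 1600000

universe u

namespace CfsgLib.SolBase

open CfsgLib.LinearPPart
open CfsgLib.OddBase (Inv CR res res_apply cr_res cr_comp_of_irreducible Heis
  exists_normal_pair ext_end)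

/-- Above a normal subgroup of a solvable group there is an elementary abelian normal factor. -/
theorem exists_elem_factor {X : Type*} [Group X] [Finite X] [Group.IsSolvable X] (A Y : Subgroup X)
    [A.Normal] [Y.Normal] (hAY : A ≤ Y) (hne : ¬ Y ≤ A) :
    ∃ (B : Subgroup X) (q : ℕ), q.Prime ∧ B.Normal ∧ A ≤ B ∧ B ≤ Y ∧ B ≠ A ∧
      (∀ x ∈ B, x ^ q ∈ A) ∧ (∀ x ∈ B, ∀ y ∈ B, x * y * x⁻¹ * y⁻¹ ∈ A) := by
  classical
  have hY' : Y.Normal := inferInstance
  set f := QuotientGroup.mk' A with hf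
  have hsurj : Function.Surjective f := QuotientGroup.mk'_surjective A
  haveI : (Y.map f).Normal := hY'.map f hsurj
  haveI : Finite (Subgroup (X ⧸ A)) :=
    Finite.of_injective (fun H => (H : Set (X ⧸ A))) SetLike.coe_injective
  have hne : Y.map f ≠ ⊥ := by
    rw [Ne, Subgroup.map_eq_bot_iff, hf, QuotientGroup.ker_mk']; exact hne
  obtain ⟨N, ⟨hN, hNb, hNle⟩, hNmin⟩ := (Set.toFinite {N : Subgroup (X ⧸ A) |
    N.Normal ∧ N ≠ ⊥ ∧ N ≤ Y.map f}).exists_minimal ⟨Y.map f, inferInstance, hne, le_rfl⟩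
  haveI := hN
  haveI : Group.IsSolvable (X ⧸ A) := inferInstance
  have hNab : ⁅N, N⁆ = ⊥ := by
    by_contra h
    exact (Group.IsSolvable.commutator_lt_of_ne_bot hNb).not_ge
      (hNmin ⟨Subgroup.commutator_normal N N, h, (Subgroup.commutator_le_left N N).trans hNle⟩
        (Subgroup.commutator_le_left N N))
  have hNc : ∀ x ∈ N, ∀ y ∈ N, x * y * x⁻¹ * y⁻¹ = 1 := fun x hx y hy => by
    have := Subgroup.commutator_mem_commutator hx hy
    rwa [hNab, Subgroup.mem_bot, commutatorElement_def] at this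
  obtain ⟨q, hq, hqd⟩ := Nat.exists_prime_and_dvd (fun h => hNb (Subgroup.eq_bot_of_card_eq N h))
  haveI := Fact.mk hq
  obtain ⟨t, ht⟩ := exists_prime_orderOf_dvd_card' q hqd
  have hcom : ∀ x ∈ N, ∀ y ∈ N, Commute x y := fun x hx y hy =>
    mul_inv_eq_iff_eq_mul.mp (mul_inv_eq_one.mp (hNc x hx y hy))
  let T : Subgroup (X ⧸ A) :=
    { carrier := {x | x ∈ N ∧ x ^ q = 1}
      one_mem' := ⟨N.one_mem, one_pow q⟩
      mul_mem' := fun {x y} hx hy => ⟨N.mul_mem hx.1 hy.1, by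
        rw [(hcom x hx.1 y hy.1).mul_pow, hx.2, hy.2, one_mul]⟩
      inv_mem' := fun {x} hx => ⟨N.inv_mem hx.1, by rw [inv_pow, hx.2, inv_one]⟩ }
  haveI hTn : T.Normal := ⟨fun x hx g => ⟨hN.conj_mem x hx.1 g, by rw [conj_pow, hx.2]; group⟩⟩
  refine ⟨T.comap f, q, hq, inferInstance, fun a ha => ?_, fun x hx => ?_, fun h => ?_,
    fun x hx => ?_, fun x hx y hy => ?_⟩
  · rw [Subgroup.mem_comap, hf, QuotientGroup.mk'_apply, (QuotientGroup.eq_one_iff a).mpr ha]
    exact one_mem _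
  · have : f x ∈ Y.map f := hNle hx.1
    rw [← Subgroup.mem_comap, Subgroup.comap_map_eq, hf, QuotientGroup.ker_mk',
      sup_eq_left.mpr hAY] at this
    exact this
  · obtain ⟨x, hx⟩ := hsurj t
    have hxT : x ∈ T.comap f := by
      rw [Subgroup.mem_comap, hx]
      exact ⟨t.2, by rw [← SubmonoidClass.coe_pow, ← ht, pow_orderOf_eq_one]; rfl⟩
    rw [h] at hxT
    have h1 : t = 1 := Subtype.ext (hx.symm.trans ((QuotientGroup.eq_one_iff x).mpr hxT))
    rw [h1, orderOf_one] at ht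
    exact hq.ne_one ht.symm
  · rw [← QuotientGroup.eq_one_iff]
    have : (f x) ^ q = 1 := hx.2
    rwa [← map_pow] at this
  · rw [← QuotientGroup.eq_one_iff]
    have := hNc _ hx.1 _ hy.1
    simp only [← map_inv, ← map_mul] at this
    exact this

/-- A solvable group normalizing a field generated by a maximal abelian normal subgroup. -/
theorem field_case {p : ℕ} [hp : Fact p.Prime] {X : Type u} [Group X] [Finite X] {V : Type u}
    [AddCommGroup V] [Finite V] [Nontrivial V] (hsolv : Group.IsSolvable X) (hV : ∀ x : V, p • x = 0)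
    (IH : SmallBase3.{u, u} (Nat.card V)) (ρ : X →* AddMonoid.End V) (hρ : Function.Injective ρ)
    (hirr : ∀ W : AddSubgroup V, Inv ρ W → W = ⊥ ∨ W = ⊤)
    {F : Type u} [Field F] [Finite F] (σ : F →+* AddMonoid.End V)
    (A : Subgroup X) [hAn : A.Normal] (hAab : ∀ a ∈ A, ∀ b ∈ A, a * b = b * a)
    (hmax : ∀ B : Subgroup X, B.Normal → (∀ a ∈ B, ∀ b ∈ B, a * b = b * a) → A ≤ B → B = A)
    (hA : ∀ a ∈ A, ∃ r, σ r = ρ a)
    (hgen : ∀ f : AddMonoid.End V, (∀ a ∈ A, Commute f (ρ a)) → ∀ r, Commute f (σ r))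
    (hnorm : ∀ g r, ∃ r', σ r' = ρ g * σ r * ρ g⁻¹) (hpA : ¬ p ∣ Nat.card A) : HasBase3 ρ := by
  classical
  haveI hnt : Nontrivial (AddMonoid.End V) := ⟨⟨1, 0, fun h => by
    obtain ⟨x, hx⟩ := exists_ne (0 : V)
    exact hx (congrArg (fun k : AddMonoid.End V => k x) h)⟩⟩
  have hσ : Function.Injective σ := σ.injective
  have hp0 : ((p : ℕ) : F) = 0 := hσ (by
    rw [map_natCast, map_zero]
    exact DFunLike.ext _ _ fun x => (AddMonoid.End.natCast_apply p x).trans (hV x))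
  haveI : CharP F p := (CharP.charP_iff_prime_eq_zero hp.out).mpr hp0
  set X₀ := Subgroup.centralizer (A : Set X) with hX₀
  haveI : X₀.Normal := Subgroup.normal_centralizer
  have hX₀A : ∀ g ∈ X₀, ∀ a ∈ A, a * g = g * a := fun g hg a ha => Subgroup.mem_centralizer_iff.mp hg a ha
  have hX₀σ : ∀ g ∈ X₀, ∀ r, Commute (ρ g) (σ r) := fun g hg => hgen _ fun a ha => by
    rw [Commute, SemiconjBy, ← map_mul, ← map_mul, hX₀A g hg a ha]
  have hAX₀ : A ≤ X₀ := fun a ha => Subgroup.mem_centralizer_iff.mpr fun b hb => hAab b hb a ha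
  -- the action on the field
  choose α₀ hα₀ using hnorm
  have hα₀' : ∀ g r, ρ g * σ r = σ (α₀ g r) * ρ g := fun g r => by
    rw [hα₀, mul_assoc, rho_inv_mul, mul_one]
  let α : X → F →+* F := fun g =>
    { toFun := α₀ g
      map_one' := hσ (by rw [hα₀, map_one, mul_one, ← map_mul, mul_inv_cancel, map_one])
      map_zero' := hσ (by rw [hα₀, map_zero, mul_zero, zero_mul])
      map_mul' := fun a b => hσ (by
        rw [map_mul, hα₀, hα₀, hα₀, map_mul, show ρ g * σ a * ρ g⁻¹ * (ρ g * σ b * ρ g⁻¹) =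
          ρ g * σ a * (ρ g⁻¹ * ρ g) * σ b * ρ g⁻¹ by simp only [mul_assoc], rho_inv_mul, mul_one]
        simp only [mul_assoc])
      map_add' := fun a b => hσ (by rw [map_add, hα₀, hα₀, hα₀, map_add, mul_add, add_mul]) }
  have hα : ∀ g r, ρ g * σ r = σ (α g r) * ρ g := hα₀'
  have hfix : ∀ g, (∀ r, Commute (ρ g) (σ r)) → g ∈ X₀ := fun g hg =>
    Subgroup.mem_centralizer_iff.mpr fun a ha => by
      obtain ⟨r, hr⟩ := hA a ha
      apply hρ
      rw [map_mul, map_mul, ← hr]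
      exact (hg r).eq.symm
  by_cases hXA : X₀ ≤ A
  · obtain ⟨γ, hγ⟩ := IsCyclic.exists_monoid_generator (α := Fˣ)
    obtain ⟨v, hv⟩ := exists_ne (0 : V)
    have hσz : ∀ r : F, σ r v = 0 → r = 0 := fun r h => by
      by_contra hr
      apply hv
      have := congrArg (σ r⁻¹) h
      rwa [map_zero, ← CfsgLib.OddBase.mul_apply', ← map_mul, inv_mul_cancel₀ hr, map_one] at this
    refine ⟨v, σ (γ : F) v, 0, fun g h1 h2 _ => ?_⟩
    rw [← CfsgLib.OddBase.mul_apply', hα, CfsgLib.OddBase.mul_apply', h1] at h2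
    have hγfix : α g γ = γ := sub_eq_zero.1 (hσz _ (by rw [map_sub]; exact sub_eq_zero.2 h2))
    have hid : ∀ r, α g r = r := by
      intro r
      by_cases hr : r = 0
      · rw [hr, map_zero]
      · obtain ⟨n, hn⟩ := (Submonoid.mem_powers_iff _ _).1 (hγ (Units.mk0 r hr))
        have e : r = (γ : F) ^ n := by rw [← Units.val_pow_eq_pow_val, hn]; rfl
        rw [e, map_pow, hγfix]
    obtain ⟨r, hr⟩ := hA g (hXA (hfix g fun r => (hα g r).trans (by rw [hid]) ))
    have hr1 : r - 1 = 0 := hσz _ (by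
      rw [map_sub, map_one, hr]
      exact sub_eq_zero.2 h1)
    rw [← hr, sub_eq_zero.1 hr1, map_one]
  -- an elementary abelian normal factor above `A`, with small centralizer if it is a two-factor
  obtain ⟨B, q, hq, hBn, hAB, hBX, hBne, hBq, hBcomm, hB2⟩ : ∃ (B : Subgroup X) (q : ℕ), q.Prime ∧
      B.Normal ∧ A ≤ B ∧ B ≤ X₀ ∧ B ≠ A ∧ (∀ x ∈ B, x ^ q ∈ A) ∧
      (∀ x ∈ B, ∀ y ∈ B, x * y * x⁻¹ * y⁻¹ ∈ A) ∧
      (q = 2 → Subgroup.centralizer (B : Set X) ≤ A) := by
    haveI := hsolv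
    by_cases hodd : ∃ (B : Subgroup X) (q : ℕ), q.Prime ∧ B.Normal ∧ A ≤ B ∧ B ≤ X₀ ∧ B ≠ A ∧
        (∀ x ∈ B, x ^ q ∈ A) ∧ (∀ x ∈ B, ∀ y ∈ B, x * y * x⁻¹ * y⁻¹ ∈ A) ∧ q ≠ 2
    · obtain ⟨B, q, h1, h2, h3, h4, h5, h6, h7, h8⟩ := hodd
      exact ⟨B, q, h1, h2, h3, h4, h5, h6, h7, fun e => absurd e h8⟩
    have htwo : ∀ (B : Subgroup X) (q : ℕ), q.Prime → B.Normal → A ≤ B → B ≤ X₀ → B ≠ A →
        (∀ x ∈ B, x ^ q ∈ A) → (∀ x ∈ B, ∀ y ∈ B, x * y * x⁻¹ * y⁻¹ ∈ A) → q = 2 :=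
      fun B q h1 h2 h3 h4 h5 h6 h7 => by
        by_contra h8
        exact hodd ⟨B, q, h1, h2, h3, h4, h5, h6, h7, h8⟩
    obtain ⟨B₀, q₀, g1, g2, g3, g4, g5, g6, g7⟩ := exists_elem_factor A X₀ hAX₀ hXA
    obtain rfl := htwo B₀ q₀ g1 g2 g3 g4 g5 g6 g7
    haveI : Finite (Subgroup X) :=
      Finite.of_injective (fun H => (H : Set X)) SetLike.coe_injective
    obtain ⟨B, ⟨h2, h3, h4, h5, h6, h7⟩, hBmax⟩ := (Set.toFinite {B : Subgroup X | B.Normal ∧ A ≤ B ∧
      B ≤ X₀ ∧ B ≠ A ∧ (∀ x ∈ B, x ^ 2 ∈ A) ∧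
      (∀ x ∈ B, ∀ y ∈ B, x * y * x⁻¹ * y⁻¹ ∈ A)}).exists_maximal ⟨B₀, g2, g3, g4, g5, g6, g7⟩
    refine ⟨B, 2, Nat.prime_two, h2, h3, h4, h5, h6, h7, fun _ => ?_⟩
    by_contra hCA
    haveI := h2
    haveI : (Subgroup.centralizer (B : Set X)).Normal := Subgroup.normal_centralizer
    have hAC : A ≤ Subgroup.centralizer (B : Set X) := fun a ha =>
      Subgroup.mem_centralizer_iff.mpr fun b hb =>
        (Subgroup.mem_centralizer_iff.mp (h4 hb) a ha).symm
    obtain ⟨N, r, k1, k2, k3, k4, k5, k6, k7⟩ := exists_elem_factor A _ hAC hCA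
    have k4' : N ≤ X₀ := fun g hg => Subgroup.mem_centralizer_iff.mpr fun a ha =>
      Subgroup.mem_centralizer_iff.mp (k4 hg) a (h3 ha)
    obtain rfl := htwo N r k1 k2 k3 k4' k5 k6 k7
    haveI := k2
    have hcomm : ∀ b ∈ B, ∀ n ∈ N, Commute b n := fun b hb n hn =>
      Subgroup.mem_centralizer_iff.mp (k4 hn) b hb
    have hBN : B ⊔ N ≤ B := by
      refine hBmax ⟨inferInstance, h3.trans le_sup_left, sup_le h4 k4', ?_, ?_, ?_⟩ le_sup_left
      · exact fun e => h5 (le_antisymm (le_sup_left.trans e.le) h3)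
      · intro x hx
        obtain ⟨b, hb, n, hn, rfl⟩ := Subgroup.mem_sup_of_normal_right.1 hx
        rw [(hcomm b hb n hn).mul_pow]
        exact A.mul_mem (h6 b hb) (k6 n hn)
      · intro x hx y hy
        obtain ⟨b, hb, n, hn, rfl⟩ := Subgroup.mem_sup_of_normal_right.1 hx
        obtain ⟨c, hc, m, hm, rfl⟩ := Subgroup.mem_sup_of_normal_right.1 hy
        have e : b * n * (c * m) * (b * n)⁻¹ * (c * m)⁻¹ =
            b * c * b⁻¹ * c⁻¹ * (n * m * n⁻¹ * m⁻¹) := by
          have e1 : n * c = c * n := (hcomm c hc n hn).eq.symm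
          have e2 : m * b⁻¹ = b⁻¹ * m := (hcomm b⁻¹ (B.inv_mem hb) m hm).eq.symm
          have e3 : n * b⁻¹ = b⁻¹ * n := (hcomm b⁻¹ (B.inv_mem hb) n hn).eq.symm
          have e4 : m⁻¹ * c⁻¹ = c⁻¹ * m⁻¹ := (hcomm c⁻¹ (B.inv_mem hc) m⁻¹ (N.inv_mem hm)).eq.symm
          have e5 : n⁻¹ * b⁻¹ = b⁻¹ * n⁻¹ := (hcomm b⁻¹ (B.inv_mem hb) n⁻¹ (N.inv_mem hn)).eq.symm
          have e6 : Commute (n * m * n⁻¹) c⁻¹ :=
            (hcomm c⁻¹ (B.inv_mem hc) _ (N.mul_mem (N.mul_mem hn hm) (N.inv_mem hn))).symm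
          calc b * n * (c * m) * (b * n)⁻¹ * (c * m)⁻¹
              = b * (n * c) * (m * (n⁻¹ * b⁻¹)) * (m⁻¹ * c⁻¹) := by group
            _ = b * (c * n) * (m * (b⁻¹ * n⁻¹)) * (c⁻¹ * m⁻¹) := by rw [e1, e5, e4]
            _ = b * c * (n * (m * b⁻¹)) * n⁻¹ * (c⁻¹ * m⁻¹) := by group
            _ = b * c * (n * (b⁻¹ * m)) * n⁻¹ * (c⁻¹ * m⁻¹) := by rw [e2]
            _ = b * c * ((n * b⁻¹) * m) * n⁻¹ * (c⁻¹ * m⁻¹) := by group
            _ = b * c * ((b⁻¹ * n) * m) * n⁻¹ * (c⁻¹ * m⁻¹) := by rw [e3]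
            _ = b * c * b⁻¹ * ((n * m * n⁻¹) * c⁻¹) * m⁻¹ := by group
            _ = b * c * b⁻¹ * (c⁻¹ * (n * m * n⁻¹)) * m⁻¹ := by rw [e6.eq]
            _ = _ := by group
        rw [e]
        exact A.mul_mem (h7 b hb c hc) (k7 n hn m hm)
    refine k5 (le_antisymm (fun n hn => ?_) k3)
    have hZA : B ⊓ Subgroup.centralizer (B : Set X) = A :=
      hmax _ (Subgroup.normal_inf_normal _ _)
        (fun a ha b hb => Subgroup.mem_centralizer_iff.mp hb.2 a ha.1) (le_inf h3 hAC)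
    rw [← hZA]
    exact ⟨(le_sup_right.trans hBN) hn, k4 hn⟩
  haveI := hBn
  haveI := Fact.mk hq
  have hcen : ∀ x ∈ B, ∀ a ∈ A, x * a = a * x := fun x hx a ha => (hX₀A x (hBX hx) a ha).symm
  have hz : ∀ x y : X, x * y = x * y * x⁻¹ * y⁻¹ * (y * x) := fun x y => by group
  have hzq : ∀ x ∈ B, ∀ y ∈ B, (x * y * x⁻¹ * y⁻¹) ^ q = 1 := by
    intro x hx y hy
    have h := comm_pow_left (hz x y) (hcen x hx _ (hBcomm x hx y hy)) q
    rw [← hcen y hy _ (hBq x hx)] at h
    exact mul_right_cancel (h.symm.trans (one_mul _).symm)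
  obtain ⟨x₁, hx₁, y₁, hy₁, hxy⟩ : ∃ x ∈ B, ∃ y ∈ B, x * y * x⁻¹ * y⁻¹ ≠ 1 := by
    by_contra h
    push Not at h
    exact hBne (hmax B hBn
      (fun a ha b hb => mul_inv_eq_iff_eq_mul.mp (mul_inv_eq_one.mp (h a ha b hb))) hAB)
  obtain ⟨ζ, hζ'⟩ := hA _ (hBcomm x₁ hx₁ y₁ hy₁)
  have hqp : q ≠ p := by
    rintro rfl
    have h1 : orderOf (x₁ * y₁ * x₁⁻¹ * y₁⁻¹) = q := orderOf_eq_prime (hzq x₁ hx₁ y₁ hy₁) hxy
    exact hpA (h1 ▸ A.orderOf_dvd_natCard (hBcomm x₁ hx₁ y₁ hy₁))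
  have hqF : (q : F) ≠ 0 := fun h => hqp
    ((Nat.prime_dvd_prime_iff_eq hp.out hq).mp ((CharP.cast_eq_zero_iff F p q).mp h)).symm
  have hζ : IsPrimitiveRoot ζ q := by
    have h1 : ζ ^ q = 1 := hσ (by rw [map_pow, hζ', ← map_pow, hzq x₁ hx₁ y₁ hy₁, map_one, map_one])
    have h2 : ζ ≠ 1 := fun h => hxy (hρ (by rw [map_one, ← hζ', h, map_one]))
    rw [← orderOf_eq_prime h1 h2]
    exact IsPrimitiveRoot.orderOf ζ
  -- the commutator form
  have hJ0 : ∀ x y : B, ∃ i : ZMod q, σ (ζ ^ i.val) = ρ ((x : X) * y * (x : X)⁻¹ * (y : X)⁻¹) := by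
    intro x y
    obtain ⟨r, hr⟩ := hA _ (hBcomm x x.2 y y.2)
    obtain ⟨i, hi, hi'⟩ := hζ.eq_pow_of_pow_eq_one (ξ := r) (hσ (by
      rw [map_pow, hr, ← map_pow, hzq x x.2 y y.2, map_one, map_one]))
    exact ⟨i, by rw [ZMod.val_natCast_of_lt hi, hi', hr]⟩
  choose J hJ using hJ0
  have hJinj : ∀ i j : ZMod q, σ (ζ ^ i.val) = σ (ζ ^ j.val) → i = j := fun i j h =>
    ZMod.val_injective q (hζ.pow_inj (ZMod.val_lt i) (ZMod.val_lt j) (hσ h))
  have hζadd : ∀ i j : ZMod q, ζ ^ (i + j).val = ζ ^ i.val * ζ ^ j.val := fun i j => by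
    rw [← pow_add, ZMod.val_add, ← pow_eq_pow_mod _ hζ.pow_eq_one]
  have hJeq : ∀ x y : B, ρ x * ρ y = σ (ζ ^ (J x y).val) * (ρ y * ρ x) := fun x y => by
    rw [hJ, ← map_mul, ← map_mul, ← map_mul, ← hz]
  have hJuniq : ∀ (x y : B) (i : ZMod q), ρ x * ρ y = σ (ζ ^ i.val) * (ρ y * ρ x) → J x y = i := by
    intro x y i h
    refine hJinj _ _ ?_
    have h1 := congrArg (· * ρ ((y : X) * x)⁻¹) ((hJeq x y).symm.trans h)
    simp only [mul_assoc] at h1
    rwa [← map_mul, ← map_mul, ← mul_assoc (y : X), mul_inv_cancel, map_one,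
      mul_one, mul_one] at h1
  have hJleft : ∀ x₁ x₂ y : B, J (x₁ * x₂) y = J x₁ y + J x₂ y := fun x₁ x₂ y => hJuniq _ _ _ (by
    rw [hζadd, map_mul σ, hJ, hJ, Subgroup.coe_mul, ← map_mul ρ, ← map_mul ρ, ← map_mul ρ,
      ← map_mul ρ]
    congr 1
    rw [comm_mul_left (hz (x₁ : X) y) (hz (x₂ : X) y) (hcen _ x₁.2 _ (hBcomm _ x₂.2 _ y.2)),
      hAab _ (hBcomm _ x₂.2 _ y.2) _ (hBcomm _ x₁.2 _ y.2)])
  have hJdiag : ∀ x : B, J x x = 0 := fun x => hJuniq _ _ _ (by
    rw [ZMod.val_zero, pow_zero, map_one, one_mul])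
  have hJanti : ∀ x y : B, J y x = - J x y := fun x y => hJuniq _ _ _ (by
    rw [hJeq x y, ← mul_assoc, ← map_mul σ, ← hζadd, neg_add_cancel, ZMod.val_zero, pow_zero,
      map_one, one_mul])
  have hJA : ∀ (a y : B), (a : X) ∈ A → J a y = 0 := fun a y ha => hJuniq _ _ _ (by
    rw [ZMod.val_zero, pow_zero, map_one, one_mul, ← map_mul, ← map_mul, hcen _ y.2 _ ha])
  -- the space
  set A' := A.subgroupOf B with hA'
  haveI : A'.Normal := inferInstance
  letI : CommGroup (B ⧸ A') :=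
    { (inferInstance : Group (B ⧸ A')) with
      mul_comm := fun a b => by
        obtain ⟨x, rfl⟩ := QuotientGroup.mk_surjective a
        obtain ⟨y, rfl⟩ := QuotientGroup.mk_surjective b
        rw [← QuotientGroup.mk_mul, ← QuotientGroup.mk_mul, QuotientGroup.eq, hA',
          Subgroup.mem_subgroupOf]
        have := hBcomm _ (B.inv_mem y.2) _ (B.inv_mem x.2)
        simpa [mul_assoc] using this }
  let W := Additive (B ⧸ A')
  have hJmk : ∀ x x' y : B, (QuotientGroup.mk x : B ⧸ A') = QuotientGroup.mk x' → J x y = J x' y := by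
    intro x x' y h
    rw [QuotientGroup.eq, hA', Subgroup.mem_subgroupOf] at h
    rw [show x' = x * (x⁻¹ * x') by group, hJleft, hJA (x⁻¹ * x') y h, add_zero]
  let lift : W → B := fun w => (Additive.toMul w).out
  have hlift : ∀ w, (QuotientGroup.mk (lift w) : B ⧸ A') = Additive.toMul w := fun w =>
    QuotientGroup.out_eq' _
  have hJr : ∀ x y y' : B, (QuotientGroup.mk y : B ⧸ A') = QuotientGroup.mk y' → J x y = J x y' :=
    fun x y y' h => by rw [hJanti y x, hJanti y' x, hJmk y y' x h]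
  have hcadd : ∀ (a b : W) (y : B), J (lift (a + b)) y = J (lift a) y + J (lift b) y := by
    intro a b y
    rw [← hJleft]
    refine hJmk _ _ _ ?_
    rw [hlift, QuotientGroup.mk_mul, hlift, hlift, toMul_add]
  let c : W →+ W →+ ZMod q := AddMonoidHom.mk'
    (fun a => AddMonoidHom.mk' (fun b => J (lift a) (lift b)) fun b b' => by
      rw [hJanti, hcadd, neg_add, ← hJanti, ← hJanti])
    fun a a' => AddMonoidHom.ext fun b => hcadd a a' (lift b)
  have halt : ∀ w, c w w = 0 := fun w => hJdiag _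
  -- the centre of `B` is `A`
  have hZ : ∀ x : B, (∀ y : B, J x y = 0) → (x : X) ∈ A := by
    intro x hx
    set Z := B ⊓ Subgroup.centralizer (B : Set X) with hZdef
    haveI : (Subgroup.centralizer (B : Set X)).Normal := Subgroup.normal_centralizer
    have hZA : Z = A := hmax Z (Subgroup.normal_inf_normal _ _)
      (fun a ha b hb => Subgroup.mem_centralizer_iff.mp hb.2 a ha.1)
      (le_inf hAB fun a ha => Subgroup.mem_centralizer_iff.mpr fun b hb => hcen b hb a ha)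
    rw [← hZA]
    refine ⟨x.2, Subgroup.mem_centralizer_iff.mpr fun y hy => ?_⟩
    apply hρ
    rw [map_mul, map_mul]
    have := hJeq x ⟨y, hy⟩
    rw [hx, ZMod.val_zero, pow_zero, map_one, one_mul] at this
    exact this.symm
  have hnd : ∀ w, (∀ x, c w x = 0) → w = 0 := by
    intro w hw
    have hmem : (lift w : X) ∈ A := hZ _ fun y => by
      rw [hJr _ y (lift (Additive.ofMul (QuotientGroup.mk y))) (hlift (Additive.ofMul (QuotientGroup.mk y : B ⧸ A'))).symm]
      exact hw _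
    have := hlift w
    rw [(QuotientGroup.eq_one_iff (lift w)).mpr (Subgroup.mem_subgroupOf.mpr hmem)] at this
    exact this.symm
  let τ : W → AddMonoid.End V := fun w => ρ (lift w)
  have hττ : ∀ a b, τ a * τ b = σ (ζ ^ (c a b).val) * (τ b * τ a) := fun a b => hJeq _ _
  have hτσ : ∀ r w, Commute (σ r) (τ w) := fun r w => (hX₀σ _ (hBX (lift w).2) r).symm
  have hτcomm : ∀ a b, c a b = 0 → Commute (τ a) (τ b) := fun a b h => by
    have := hττ a b
    rw [h, ZMod.val_zero, pow_zero, map_one, one_mul] at this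
    exact this
  have hA0 : ∀ a ∈ A, ∃ r, r ≠ 0 ∧ σ r = ρ a := fun a ha => by
    obtain ⟨r, hr⟩ := hA a ha
    refine ⟨r, fun h0 => ?_, hr⟩
    rw [h0, map_zero] at hr
    have := congrArg (ρ a⁻¹ * ·) hr
    simp only [mul_zero, rho_inv_mul] at this
    exact zero_ne_one this
  have hτq : ∀ w, ∃ r : F, r ≠ 0 ∧ τ w ^ q = σ r := fun w => by
    obtain ⟨r, hr0, hr⟩ := hA0 _ (hBq _ (lift w).2)
    exact ⟨r, hr0, by rw [hr, ← map_pow]⟩
  have hclassA : ∀ b b' : B, (QuotientGroup.mk b : B ⧸ A') = QuotientGroup.mk b' →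
      ∃ r, r ≠ 0 ∧ ρ (b' : X) = σ r * ρ (b : X) := by
    intro b b' h
    rw [QuotientGroup.eq, hA', Subgroup.mem_subgroupOf, Subgroup.coe_mul, Subgroup.coe_inv] at h
    obtain ⟨r, hr0, hr⟩ := hA0 _ h
    refine ⟨r, hr0, ?_⟩
    rw [((hX₀σ _ (hBX b.2) r).symm).eq, hr, ← map_mul, mul_inv_cancel_left]
  have hτadd : ∀ w w', ∃ r, r ≠ 0 ∧ τ (w + w') = σ r * (τ w * τ w') := by
    intro w w'
    obtain ⟨r, hr0, hr⟩ := hclassA (lift w * lift w') (lift (w + w')) (by
      rw [QuotientGroup.mk_mul, hlift, hlift, hlift, toMul_add])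
    exact ⟨r, hr0, hr.trans (by rw [Subgroup.coe_mul, map_mul])⟩
  let P : W → Prop := fun w => q ≠ 2 ∨ ∃ γ, γ ≠ 0 ∧ τ w ^ q = σ (γ ^ q)
  have hbad : ∀ w, ¬ P w → q = 2 ∧ ∀ β, τ w ^ q = σ β → ¬ IsSquare β := by
    intro w hw
    simp only [P, not_or, not_not] at hw
    refine ⟨hw.1, fun β hβ => ?_⟩
    rintro ⟨γ, rfl⟩
    obtain ⟨r, hr0, hr⟩ := hτq w
    have e : r = γ * γ := hσ (hr.symm.trans hβ)
    refine hw.2 ⟨γ, fun h0 => hr0 (by rw [e, h0, mul_zero]), ?_⟩
    rw [hβ, hw.1, pow_two]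
  have hPsum : ∀ w w', w ≠ 0 → w' ≠ 0 → w + w' ≠ 0 → c w w' = 0 → ¬ P w → ¬ P w' → P (w + w') := by
    intro w w' _ _ _ hww' hw hw'
    obtain ⟨hq2, hw⟩ := hbad w hw
    obtain ⟨β, -, hβ⟩ := hτq w
    obtain ⟨α', hα0, hα'⟩ := hτq w'
    have hsq := isSquare_mul_of_not (hw β hβ) ((hbad w' hw').2 α' hα')
    obtain ⟨γ, hγ⟩ := hsq
    obtain ⟨r, hr0, hr⟩ := hτadd w w'
    refine Or.inr ⟨r * γ, mul_ne_zero hr0 fun h0 => ?_, ?_⟩
    · rw [h0, mul_zero] at hγ
      rcases mul_eq_zero.1 hγ with h | h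
      · exact hw β hβ (h ▸ IsSquare.zero)
      · exact hα0 h
    · rw [hr, ((hτσ r w).mul_right (hτσ r w')).mul_pow, (hτcomm _ _ hww').mul_pow, hβ, hα',
        ← map_pow, ← map_mul, ← map_mul, mul_pow r γ]
      congr 2
      rw [hγ, hq2, pow_two]
  obtain ⟨s, eW, fW, R, hef, hee, hff, hoff, hPe, hR, hspan⟩ := exists_good_pairs W c halt hnd P hPsum
  have hRorth : ∀ w ∈ R, ∀ i, c (eW i) w = 0 ∧ c (fW i) w = 0 := by
    rcases hR with rfl | ⟨v, u, rfl, -, -, -, -, horth⟩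
    · exact fun w hw => absurd hw (Set.notMem_empty w)
    · rintro w (rfl | rfl) i
      · exact ⟨(horth i).1, (horth i).2.2.1⟩
      · exact ⟨(horth i).2.1, (horth i).2.2.2⟩
  have hpair : ∀ i : Fin s, ∃ (x z : AddMonoid.End V) (δ : F), δ ≠ 0 ∧ x ^ q = 1 ∧ z ^ q = σ δ ∧
      x * z = σ ζ * (z * x) ∧ (∀ r, Commute (σ r) x) ∧ (∀ r, Commute (σ r) z) ∧
      (∀ g, (∀ r, Commute g (σ r)) → Commute g (τ (eW i)) → Commute g (τ (fW i)) →
        Commute g x ∧ Commute g z) ∧
      ∀ P : AddMonoid.End V → Prop, (∀ r, P (σ r)) → (∀ a b, P a → P b → P (a * b)) →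
        ((P (τ (eW i)) → P (τ (fW i)) → P x ∧ P z) ∧
          (P x → P z → P (τ (eW i)) ∧ P (τ (fW i)))) := by
    intro i
    obtain ⟨β, hβ, hu⟩ := hτq (eW i)
    obtain ⟨a, ha, hv⟩ := hτq (fW i)
    have huv := hττ (eW i) (fW i)
    rw [hef, ZMod.val_one, pow_one] at huv
    rcases hPe i with hq2 | ⟨γ, hγ0, hγ⟩
    · exact exists_normal_pair σ hq2 hζ (fun r => hτσ r _) (fun r => hτσ r _) huv ha hβ hu hv
    · exact exists_normal_pair_root σ (fun r => hτσ r _) (fun r => hτσ r _) huv ha hβ hu hv hγ0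
        (hσ (hγ.symm.trans hu))
  choose xs zs δ hδ hxq hzq' hxz hσx hσz hgxz hP using hpair
  have hcross : ∀ i j : Fin s, i ≠ j → ∀ g, (g = τ (eW i) ∨ g = τ (fW i)) →
      Commute g (xs j) ∧ Commute g (zs j) := by
    intro i j hij g hg
    rcases hg with rfl | rfl
    · exact hgxz j _ (fun r => (hτσ r _).symm) (hτcomm _ _ (hee i j)) (hτcomm _ _ (hoff i j hij))
    · refine hgxz j _ (fun r => (hτσ r _).symm) ?_ (hτcomm _ _ (hff i j))
      exact (hτcomm _ _ (hoff j i (Ne.symm hij))).symm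
  let D : Heis F V q s :=
    { sc := σ
      ξ := ζ
      hξ := hζ
      hq0 := hqF
      x := xs
      z := zs
      δ := δ
      hδ := hδ
      scx := fun r i => hσx i r
      scz := fun r i => hσz i r
      xx := fun i j => by
        by_cases hij : i = j
        · rw [hij]
        · exact ((hgxz i (xs j) (fun r => (hσx j r).symm) ((hcross i j hij _ (Or.inl rfl)).1.symm)
            ((hcross i j hij _ (Or.inr rfl)).1.symm)).1).symm
      zz := fun i j => by
        by_cases hij : i = j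
        · rw [hij]
        · exact ((hgxz i (zs j) (fun r => (hσz j r).symm) ((hcross i j hij _ (Or.inl rfl)).2.symm)
            ((hcross i j hij _ (Or.inr rfl)).2.symm)).2).symm
      xz := fun i j hij =>
        ((hgxz i (zs j) (fun r => (hσz j r).symm) ((hcross i j hij _ (Or.inl rfl)).2.symm)
          ((hcross i j hij _ (Or.inr rfl)).2.symm)).1).symm
      xzi := hxz
      xq := hxq
      zq := hzq' }
  -- the extra operators
  obtain ⟨E, hEσ, hER, hEcomm, hEeigen⟩ : ∃ E : Submonoid (AddMonoid.End V), (∀ r, σ r ∈ E) ∧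
      (∀ w ∈ R, τ w ∈ E) ∧
      (∀ g, (∀ r, Commute g (σ r)) → (∀ w ∈ R, Commute g (τ w)) → ∀ e ∈ E, Commute g e) ∧
      (∀ e ∈ E, ∀ (r : F) (x : V), x ≠ 0 → e x = σ r x → e = σ r) := by
    rcases hR with rfl | ⟨v, u, rfl, hvu, hv, hu, hvu', -⟩
    · refine ⟨MonoidHom.mrange σ.toMonoidHom, fun r => ⟨r, rfl⟩,
        fun w hw => absurd hw (Set.notMem_empty w), ?_, ?_⟩
      · rintro g hg - _ ⟨r, rfl⟩
        exact hg r
      · rintro _ ⟨r', rfl⟩ r x hx h
        by_contra hne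
        have h1 : σ (r' - r) x = 0 := by rw [map_sub]; exact sub_eq_zero.2 h
        have h2 : r' - r ≠ 0 := sub_ne_zero.2 fun e => hne (congrArg σ e)
        apply hx
        have := congrArg (σ (r' - r)⁻¹) h1
        rwa [map_zero, ← CfsgLib.OddBase.mul_apply', ← map_mul, inv_mul_cancel₀ h2, map_one] at this
    · obtain ⟨hq2, hv⟩ := hbad v hv
      obtain ⟨-, hu⟩ := hbad u hu
      obtain ⟨-, hvu'⟩ := hbad _ hvu'
      subst hq2
      obtain ⟨β, -, hβ⟩ := hτq v
      obtain ⟨α', -, hα'⟩ := hτq u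
      have hanti : τ v * τ u = σ (-1) * (τ u * τ v) := by
        rw [hττ, hvu, ZMod.val_one, pow_one, hζ.eq_neg_one_of_two_right]
      have hsq : (τ v * τ u) ^ 2 = σ (-(β * α')) := by
        have hanti' : τ u * τ v = σ (-1) * (τ v * τ u) := by
          rw [hanti, ← mul_assoc, ← map_mul σ, neg_one_mul, neg_neg, map_one, one_mul]
        rw [pow_two, mul_assoc, ← mul_assoc (τ u) (τ v) (τ u), hanti', mul_assoc (σ (-1)),
          mul_assoc (τ v) (τ u) (τ u), ← pow_two (τ u), hα', ← mul_assoc (τ v) (σ (-1)),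
          ← (hτσ _ v).eq, mul_assoc (σ (-1)), ← mul_assoc (τ v) (τ v), ← pow_two (τ v), hβ,
          ← map_mul, ← map_mul, neg_one_mul]
      have hnsq : ¬ IsSquare (-(β * α')) := by
        rintro ⟨γ, hγ⟩
        obtain ⟨r, hr0, hr⟩ := hτadd v u
        refine hvu' (r ^ 2 * -(β * α')) ?_ ⟨r * γ, by rw [hγ]; ring⟩
        rw [hr, ((hτσ r v).mul_right (hτσ r u)).mul_pow, hsq, ← map_pow, ← map_mul]
      obtain ⟨E, h1, h2, h3, h4, h5⟩ := exists_plane_monoid σ (fun r => hτσ r v) (fun r => hτσ r u)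
        hanti (by rw [← pow_two, hβ]) (by rw [← pow_two, hα']) (hv β hβ) (hu α' hα') hnsq
      refine ⟨E, h1, ?_, fun g hg hgR => h4 g hg (hgR v (Or.inl rfl)) (hgR u (Or.inr rfl)), h5⟩
      rintro w (rfl | rfl)
      exacts [h2, h3]
  have hE : Extra D E :=
    { scal := hEσ
      comm_sc := fun e he r => ((hEcomm (σ r) (fun r' => (Commute.all r r').map σ)
        (fun w _ => hτσ r w)) e he).symm
      comm_x := fun e he i => ((hEcomm (xs i) (fun r => (hσx i r).symm) fun w hw =>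
        ((hgxz i (τ w) (fun r => (hτσ r w).symm) (hτcomm _ _ (hRorth w hw i).1).symm
          (hτcomm _ _ (hRorth w hw i).2).symm).1).symm) e he).symm
      comm_z := fun e he i => ((hEcomm (zs i) (fun r => (hσz i r).symm) fun w hw =>
        ((hgxz i (τ w) (fun r => (hτσ r w).symm) (hτcomm _ _ (hRorth w hw i).1).symm
          (hτcomm _ _ (hRorth w hw i).2).symm).2).symm) e he).symm
      eigen := hEeigen }
  let PM : AddMonoid.End V → Prop := fun f => ∃ L, EMon D E f L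
  have hPσ : ∀ r, PM (σ r) := fun r => ⟨0, EMon.of_mon (D.mon_sc r)⟩
  have hPmul : ∀ a b, PM a → PM b → PM (a * b) := fun a b ⟨L, ha⟩ ⟨M, hb⟩ => ⟨L + M, ha.mul hE hb⟩
  -- properties of all operators in the normal subgroup
  have hBgen : ∀ Pr : AddMonoid.End V → Prop, (∀ r, Pr (σ r)) → (∀ a b, Pr a → Pr b → Pr (a * b)) →
      (∀ i, Pr (τ (eW i)) ∧ Pr (τ (fW i))) → (∀ w ∈ R, Pr (τ w)) → ∀ b ∈ B, Pr (ρ b) := by
    intro Pr h1 h2 h3 h4
    let T : AddSubmonoid W :=
      { carrier := {w | ∀ (b : B), Additive.ofMul (QuotientGroup.mk b : B ⧸ A') = w → Pr (ρ b)}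
        zero_mem' := fun b hb => by
          obtain ⟨r, hr⟩ := hA b ((QuotientGroup.eq_one_iff b).mp (congrArg Additive.toMul hb))
          exact hr ▸ h1 r
        add_mem' := fun {w w'} hw hw' b hb => by
          have hb2 : (b : X) = (lift w : X) * (((lift w)⁻¹ * b : B) : X) := by simp
          rw [hb2, map_mul]
          refine h2 _ _ (hw _ (congrArg Additive.ofMul (hlift w))) (hw' _ ?_)
          rw [QuotientGroup.mk_mul, QuotientGroup.mk_inv, hlift, ofMul_mul, ofMul_inv, hb]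
          exact neg_add_cancel_left w w' }
    have hT : ∀ w, Pr (τ w) → w ∈ T := fun w hw b hb => by
      obtain ⟨r, -, hr⟩ := hclassA (lift w) b (by rw [hlift, ← hb, toMul_ofMul])
      rw [hr]
      exact h2 _ _ (h1 r) hw
    have htop : AddSubmonoid.closure (Set.range eW ∪ Set.range fW ∪ R) ≤ T := by
      refine AddSubmonoid.closure_le.2 ?_
      rintro w ((⟨i, rfl⟩ | ⟨i, rfl⟩) | hw)
      exacts [hT _ (h3 i).1, hT _ (h3 i).2, hT _ (h4 w hw)]
    exact fun b hb => htop (hspan ▸ trivial) ⟨b, hb⟩ rfl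
  have hmonB : ∀ b ∈ B, PM (ρ b) := hBgen PM hPσ hPmul
    (fun i => (hP i PM hPσ hPmul).2 ⟨_, EMon.of_mon (D.mon_x i)⟩ ⟨_, EMon.of_mon (D.mon_z i)⟩)
    fun w hw => ⟨0, 1, τ w, by rw [← map_one D.sc]; exact D.mon_sc 1, hER w hw, (one_mul _).symm⟩
  -- conjugates of the configuration
  have hQ : ∀ (g : X) i, (∃ f L, EMon D E f L ∧ ρ g * xs i = f * ρ g) ∧
      ∃ f L, EMon D E f L ∧ ρ g * zs i = f * ρ g := by
    intro g i
    let Q : AddMonoid.End V → Prop := fun f => ∃ f' L, EMon D E f' L ∧ ρ g * f = f' * ρ g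
    have hQσ : ∀ r, Q (σ r) := fun r => ⟨σ (α g r), 0, EMon.of_mon (D.mon_sc _), hα g r⟩
    have hQmul : ∀ a b, Q a → Q b → Q (a * b) := fun a b ⟨a', L, ha, ea⟩ ⟨b', M, hb, eb⟩ =>
      ⟨a' * b', L + M, ha.mul hE hb, by rw [← mul_assoc, ea, mul_assoc, eb, mul_assoc]⟩
    have hQτ : ∀ w, Q (τ w) := fun w => by
      obtain ⟨L, hL⟩ := hmonB _ (hBn.conj_mem _ (lift w).2 g)
      exact ⟨_, L, hL, by rw [← map_mul, ← map_mul]; group⟩
    exact (hP i Q hQσ hQmul).1 (hQτ _) (hQτ _)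
  have hcommτ : ∀ G, (∀ r, Commute G (σ r)) → (∀ i, Commute G (xs i)) → (∀ i, Commute G (zs i)) →
      ∀ i, Commute G (τ (eW i)) ∧ Commute G (τ (fW i)) :=
    fun G h1 h2 h3 i => (hP i (fun f => Commute G f) h1 fun a b ha hb => ha.mul_right hb).2 (h2 i) (h3 i)
  have hcent : ∀ g, (∀ r, Commute (ρ g) (σ r)) → (∀ i, Commute (ρ g) (xs i)) →
      (∀ i, Commute (ρ g) (zs i)) → (∀ w ∈ R, Commute (ρ g) (τ w)) →
      g ∈ Subgroup.centralizer (B : Set X) := fun g h1 h2 h3 h4 =>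
    Subgroup.mem_centralizer_iff.mpr fun b hb => hρ (by
      rw [map_mul, map_mul]
      exact (hBgen (fun f => Commute (ρ g) f) h1 (fun a b ha hb => ha.mul_right hb)
        (hcommτ _ h1 h2 h3) h4 b hb).eq.symm)
  have hfinal : ∀ g, (∀ i, Commute (ρ g) (zs i)) → (∀ u ∈ D.U, ρ g u = u) → ρ g = 1 := by
    intro g hgz hgU
    refine D.eq_of_slots fun l u hu => ?_
    have hz : Commute (ρ g) (D.Z (Heis.lift l)) := by
      refine Heis.vec_induction (P := fun k => Commute (ρ g) (D.Z k))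
        (by rw [D.Z_zero]; exact Commute.one_right _)
        (fun a b ha hb => by rw [D.Z_add]; exact ha.mul_right hb)
        (fun i n => by rw [D.Z_single]; exact (hgz i).pow_right n) _
    show ρ g (D.Z _ u) = D.Z _ u
    rw [Heis.comm_apply hz, hgU u hu]
  obtain ⟨a₁, ha₁, ha₁0⟩ : ∃ a ∈ D.U, a ≠ 0 := by
    by_contra h
    push Not at h
    have h10 : (1 : AddMonoid.End V) = 0 := D.eq_of_slots fun l u hu => by
      rw [h u hu, map_zero, map_zero, map_zero]
    exact one_ne_zero h10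
  haveI : Nontrivial D.U := ⟨⟨⟨a₁, ha₁⟩, 0, fun e => ha₁0 (congrArg Subtype.val e)⟩⟩
  rcases hR with rfl | ⟨v, u, rfl, hvu, hv, hu, hvu', horth⟩
  · -- no plane of bad vectors: descend to the centralizer
    have hs1 : 0 < s := by
      rcases Nat.eq_zero_or_pos s with rfl | h
      · exfalso
        apply hBne
        refine le_antisymm (fun b hb => ?_) hAB
        have hbot : (⊤ : AddSubmonoid W) = ⊥ := by
          rw [← hspan, Set.range_eq_empty, Set.range_eq_empty, Set.union_empty,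
            Set.union_empty, AddSubmonoid.closure_empty]
        have hz : ∀ w : W, w = 0 := fun w => by
          have : w ∈ (⊥ : AddSubmonoid W) := hbot ▸ (trivial : w ∈ (⊤ : AddSubmonoid W))
          exact this
        have h1 : (QuotientGroup.mk (⟨b, hb⟩ : B) : B ⧸ A') = 1 :=
          congrArg Additive.toMul (hz (Additive.ofMul (QuotientGroup.mk (⟨b, hb⟩ : B) : B ⧸ A')))
        exact Subgroup.mem_subgroupOf.mp ((QuotientGroup.eq_one_iff (⟨b, hb⟩ : B)).mp h1)
      · exact h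
    set C := Subgroup.centralizer (B : Set X) with hC
    haveI : C.Normal := Subgroup.normal_centralizer
    have hCX : C ≤ X₀ := fun g hg => Subgroup.mem_centralizer_iff.mpr fun a ha =>
      Subgroup.mem_centralizer_iff.mp hg a (hAB ha)
    have hCxz : ∀ g ∈ C, (∀ i, Commute (ρ g) (xs i)) ∧ (∀ i, Commute (ρ g) (zs i)) := by
      intro g hg
      have hτ : ∀ w, Commute (ρ g) (τ w) := fun w => by
        rw [Commute, SemiconjBy, ← map_mul, ← map_mul,
          Subgroup.mem_centralizer_iff.mp hg _ (lift w).2]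
      exact ⟨fun i => (hgxz i _ (hX₀σ g (hCX hg)) (hτ _) (hτ _)).1,
        fun i => (hgxz i _ (hX₀σ g (hCX hg)) (hτ _) (hτ _)).2⟩
    have hU : Inv (ρ.comp C.subtype) D.U := fun g v hv i => by
      show D.x i (ρ (g : X) v) = ρ (g : X) v
      rw [Heis.comm_apply ((hCxz g g.2).1 i).symm, hv i]
    have hUlt : Nat.card D.U < Nat.card V := by
      refine lt_of_le_of_ne (AddSubgroup.card_le_card_addGroup _) fun h => ?_
      have hmem : D.slot (Pi.single ⟨0, hs1⟩ 1) a₁ ∈ D.U :=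
        AddSubgroup.eq_top_of_card_eq _ h ▸ AddSubgroup.mem_top _
      have := congrFun (D.slot_index_eq (c := Pi.single ⟨0, hs1⟩ 1) (d := 0) ha₁ hmem (by rw [D.slot_zero]; rfl) ha₁0) ⟨0, hs1⟩
      simp at this
    obtain ⟨a, b, b', ha0, hab⟩ := HasBase3.exists_ne_zero _ (IH C inferInstance D.U hUlt _
      (cr_res _ (cr_comp_of_irreducible ρ hirr C) D.U hU))
    obtain ⟨w, w', hw⟩ := exists_rigid_vectors hs1 hE a.2 (fun h => ha0 (Subtype.ext h)) b.2 b'.2
    refine ⟨a, w, w', fun g hga hgw hgw' => ?_⟩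
    obtain ⟨hgσ, hgx, hgz, hgb, hgb'⟩ := hw (ρ g) (ρ g⁻¹) (α g) (rho_inv_mul ρ g) (hα g)
      (fun i => (hQ g i).1) (fun i => (hQ g i).2) hga hgw hgw'
    have hgC : g ∈ C := hcent g hgσ hgx hgz fun w hw => absurd hw (Set.notMem_empty w)
    have hone := hab ⟨g, hgC⟩ (Subtype.ext hga) (Subtype.ext hgb) (Subtype.ext hgb')
    exact hfinal g hgz fun x hx =>
      congrArg (fun f : AddMonoid.End D.U => ((f ⟨x, hx⟩ : D.U) : V)) hone
  -- a plane of bad vectors: the group left is small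
  obtain ⟨hq2, hv2⟩ := hbad v hv
  obtain ⟨-, hu2⟩ := hbad u hu
  subst hq2
  have hCA := hB2 rfl
  let K : Subgroup X :=
    { carrier := {g | (∀ r, Commute (ρ g) (σ r)) ∧ (∀ i, Commute (ρ g) (xs i)) ∧
        (∀ i, Commute (ρ g) (zs i)) ∧ ρ g a₁ = a₁}
      one_mem' := ⟨fun r => by rw [map_one]; exact Commute.one_left _,
        fun i => by rw [map_one]; exact Commute.one_left _,
        fun i => by rw [map_one]; exact Commute.one_left _, by rw [map_one]; rfl⟩
      mul_mem' := fun {g h} hg hh => ⟨fun r => by rw [map_mul]; exact (hg.1 r).mul_left (hh.1 r),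
        fun i => by rw [map_mul]; exact (hg.2.1 i).mul_left (hh.2.1 i),
        fun i => by rw [map_mul]; exact (hg.2.2.1 i).mul_left (hh.2.2.1 i), by
          rw [map_mul, CfsgLib.OddBase.mul_apply', hh.2.2.2, hg.2.2.2]⟩
      inv_mem' := fun {g} hg => by
        have hinv : ∀ f, Commute (ρ g) f → Commute (ρ g⁻¹) f := fun f hf => by
          show ρ g⁻¹ * f = f * ρ g⁻¹
          calc ρ g⁻¹ * f = ρ g⁻¹ * (f * ρ g) * ρ g⁻¹ := by
                rw [mul_assoc, mul_assoc, ← map_mul, mul_inv_cancel, map_one, mul_one]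
            _ = _ := by rw [← hf.eq, ← mul_assoc (ρ g⁻¹), rho_inv_mul, one_mul]
        exact ⟨fun r => hinv _ (hg.1 r), fun i => hinv _ (hg.2.1 i), fun i => hinv _ (hg.2.2.1 i),
          by rw [← congrArg (ρ g⁻¹) hg.2.2.2, CfsgLib.OddBase.inv_apply]⟩ }
  let κ : X → W → W := fun g w =>
    Additive.ofMul (QuotientGroup.mk (⟨g * lift w * g⁻¹, hBn.conj_mem _ (lift w).2 g⟩ : B) : B ⧸ A')
  have hκmk : ∀ (g : X) (b : B), κ g (Additive.ofMul (QuotientGroup.mk b : B ⧸ A')) =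
      Additive.ofMul (QuotientGroup.mk (⟨g * b * g⁻¹, hBn.conj_mem _ b.2 g⟩ : B) : B ⧸ A') := by
    intro g b
    refine congrArg Additive.ofMul (QuotientGroup.eq.2 ?_)
    have := (QuotientGroup.eq (s := A')).1 (hlift (Additive.ofMul (QuotientGroup.mk b : B ⧸ A')))
    replace this := Subgroup.mem_subgroupOf.mp this
    refine Subgroup.mem_subgroupOf.mpr ?_
    have h2 := hAn.conj_mem _ this g
    simp only [Subgroup.coe_mul, Subgroup.coe_inv] at h2 ⊢
    convert h2 using 1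
    group
  have hκone : ∀ w, κ 1 w = w := fun w => by
    conv_lhs => rw [show w = Additive.ofMul (QuotientGroup.mk (lift w) : B ⧸ A') from
      (congrArg Additive.ofMul (hlift w)).symm, hκmk]
    conv_rhs => rw [show w = Additive.ofMul (QuotientGroup.mk (lift w) : B ⧸ A') from
      (congrArg Additive.ofMul (hlift w)).symm]
    simp
  have hκmul : ∀ g h w, κ (g * h) w = κ g (κ h w) := fun g h w => by
    rw [show κ h w = Additive.ofMul (QuotientGroup.mk (⟨h * lift w * h⁻¹, hBn.conj_mem _ (lift w).2 h⟩ : B) : B ⧸ A') from rfl,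
      hκmk]
    simp [κ, mul_assoc]
  have hκinj : ∀ g, Function.Injective (κ g) := fun g w w' e => by
    have := congrArg (κ g⁻¹) e
    rwa [← hκmul, ← hκmul, inv_mul_cancel, hκone, hκone] at this
  have hJconj : ∀ g, (∀ r, Commute (ρ g) (σ r)) → ∀ a b, c (κ g a) (κ g b) = c a b := by
    intro g hg a b
    show J (lift (κ g a)) (lift (κ g b)) = J (lift a) (lift b)
    rw [hJmk _ ⟨g * lift a * g⁻¹, hBn.conj_mem _ (lift a).2 g⟩ _ (hlift (κ g a)),
      hJr _ _ ⟨g * lift b * g⁻¹, hBn.conj_mem _ (lift b).2 g⟩ (hlift (κ g b))]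
    refine hJuniq _ _ _ ?_
    simp only [map_mul]
    calc ρ g * ρ (lift a) * ρ g⁻¹ * (ρ g * ρ (lift b) * ρ g⁻¹)
        = ρ g * (ρ (lift a) * ρ (lift b)) * ρ g⁻¹ := by
          simp only [mul_assoc]
          rw [← mul_assoc (ρ g⁻¹) (ρ g), rho_inv_mul, one_mul]
      _ = ρ g * (σ (ζ ^ (J (lift a) (lift b)).val) * (ρ (lift b) * ρ (lift a))) * ρ g⁻¹ := by
          rw [hJeq]
      _ = _ := by
          rw [← mul_assoc (ρ g), (hg _).eq]
          simp only [mul_assoc]
          rw [← mul_assoc (ρ g⁻¹) (ρ g), rho_inv_mul, one_mul]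
  have hκfix : ∀ g ∈ K, ∀ i, κ g (eW i) = eW i ∧ κ g (fW i) = fW i := by
    intro g hg i
    have h : ∀ w, Commute (ρ g) (τ w) → κ g w = w := fun w hw => by
      refine Eq.trans ?_ (congrArg Additive.ofMul (hlift w))
      refine congrArg (fun b : B => Additive.ofMul (QuotientGroup.mk b : B ⧸ A')) (Subtype.ext (hρ ?_))
      show ρ (g * lift w * g⁻¹) = ρ (lift w)
      rw [map_mul, map_mul, hw.eq, mul_assoc, ← map_mul, mul_inv_cancel, map_one, mul_one]
    exact ⟨h _ (hcommτ _ hg.1 hg.2.1 hg.2.2.1 i).1, h _ (hcommτ _ hg.1 hg.2.1 hg.2.2.1 i).2⟩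
  have hanti := form_anti c halt
  have hplane : ∀ w, (∀ i, c (eW i) w = 0 ∧ c (fW i) w = 0) → w = 0 ∨ w = v ∨ w = u ∨ w = v + u := by
    intro w hw
    set i := c w u
    set j := - c w v
    have hcuv : c u v = -1 := by rw [hanti v u, hvu]
    have hsmul : ∀ (n : ZMod 2) (x y : W), c (n.val • x) y = n * c x y := fun n x y => by
      rw [map_nsmul, AddMonoidHom.nsmul_apply, nsmul_eq_mul, ZMod.natCast_val, ZMod.cast_id]
    have h0 : w - (i.val • v + j.val • u) = 0 := by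
      refine hnd _ fun x => ?_
      have hx : x ∈ AddSubmonoid.closure (Set.range eW ∪ Set.range fW ∪ {v, u}) := hspan ▸ trivial
      induction hx using AddSubmonoid.closure_induction with
      | mem y hy =>
        simp only [map_sub, map_add, AddMonoidHom.sub_apply, AddMonoidHom.add_apply, hsmul]
        rcases hy with (⟨k, rfl⟩ | ⟨k, rfl⟩) | hy
        · rw [hanti (eW k) w, (hw k).1, hanti (eW k) v, hanti (eW k) u, (horth k).1, (horth k).2.1]
          simp
        · rw [hanti (fW k) w, (hw k).2, hanti (fW k) v, hanti (fW k) u, (horth k).2.2.1,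
            (horth k).2.2.2]
          simp
        · rcases hy with rfl | rfl
          · rw [halt, hcuv]; simp [j]
          · rw [halt, hvu]; simp [i]
      | zero => rw [map_zero]
      | add y z _ _ hy hz => rw [map_add, hy, hz, add_zero]
    rw [sub_eq_zero] at h0
    have hi := ZMod.val_lt i
    have hj := ZMod.val_lt j
    rcases Nat.le_one_iff_eq_zero_or_eq_one.1 (Nat.le_of_lt_succ hi) with e1 | e1 <;>
      rcases Nat.le_one_iff_eq_zero_or_eq_one.1 (Nat.le_of_lt_succ hj) with e2 | e2 <;>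
      rw [e1, e2] at h0 <;> simp only [zero_smul, one_smul, zero_add, add_zero] at h0
    exacts [Or.inl h0, Or.inr (Or.inr (Or.inl h0)), Or.inr (Or.inl h0), Or.inr (Or.inr (Or.inr h0))]
  -- an element fixing the plane pointwise is trivial
  have hker : ∀ g ∈ K, κ g v = v → κ g u = u → g = 1 := by
    intro g hg hgv hgu
    have hsign : ∀ w, κ g w = w → ∃ i : ZMod 2, ρ g * τ w = σ (ζ ^ i.val) * (τ w * ρ g) := by
      intro w hw
      obtain ⟨r, -, hr⟩ := hclassA (lift w) ⟨g * lift w * g⁻¹, hBn.conj_mem _ (lift w).2 g⟩ (by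
        rw [hlift]; exact (congrArg Additive.toMul hw).symm)
      have hr' : ρ g * τ w = σ r * (τ w * ρ g) := by
        show ρ g * ρ (lift w : X) = σ r * (ρ (lift w : X) * ρ g)
        rw [← mul_assoc, ← hr, ← map_mul, ← map_mul]
        simp
      obtain ⟨β, hβ0, hβ⟩ := hτq w
      have h1 : r ^ 2 * β = β := hσ (by
        have e : σ β * ρ g = σ (r ^ 2 * β) * ρ g := by
          rw [← (hg.1 β).eq, ← hβ, pow_two, ← mul_assoc, hr', mul_assoc, mul_assoc (τ w), hr',
            ← mul_assoc (τ w) (σ r), ← (hτσ r w).eq, mul_assoc (σ r) (τ w), ← mul_assoc (σ r),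
            ← mul_assoc (τ w) (τ w), ← pow_two (τ w), hβ, ← mul_assoc, ← map_mul, ← map_mul,
            ← pow_two]
        have := congrArg (· * ρ g⁻¹) e
        simp only [mul_assoc, ← map_mul ρ, mul_inv_cancel, map_one, mul_one] at this
        exact this.symm)
      have h2 : r ^ 2 = 1 := mul_right_cancel₀ hβ0 (h1.trans (one_mul β).symm)
      obtain ⟨i, hi, hi'⟩ := hζ.eq_pow_of_pow_eq_one (ξ := r) h2
      exact ⟨i, by rw [ZMod.val_natCast_of_lt hi, hi']; exact hr'⟩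
    obtain ⟨iv, hiv⟩ := hsign v hgv
    obtain ⟨iu, hiu⟩ := hsign u hgu
    set wb : W := (-iu).val • v + iv.val • u
    have hsmulr : ∀ (n : ZMod 2) (x y : W), c x (n.val • y) = n * c x y := fun n x y => by
      rw [map_nsmul, nsmul_eq_mul, ZMod.natCast_val, ZMod.cast_id]
    have hwv : c wb v = -iv := by
      rw [hanti v wb, map_add, hsmulr, hsmulr, halt, hvu]; ring
    have hwu : c wb u = -iu := by
      rw [hanti u wb, map_add, hsmulr, hsmulr, halt, hanti v u, hvu]; ring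
    have hwe : ∀ i, c (eW i) wb = 0 ∧ c (fW i) wb = 0 := fun i => by
      simp only [wb, map_add, hsmulr, (horth i).1, (horth i).2.1, (horth i).2.2.1, (horth i).2.2.2,
        mul_zero, add_zero, and_self]
    have hbσ : ∀ r, Commute (ρ (lift wb : X)) (σ r) := fun r => (hτσ r wb).symm
    have hflip : ∀ w (i : ZMod 2), ρ g * τ w = σ (ζ ^ i.val) * (τ w * ρ g) → c wb w = -i →
        Commute (ρ (g * lift wb)) (τ w) := by
      intro w i h1 h2
      have h3 : τ wb * τ w = σ (ζ ^ (-i).val) * (τ w * τ wb) := by rw [hττ, h2]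
      show ρ (g * lift wb) * τ w = τ w * ρ (g * lift wb)
      rw [map_mul, show ρ (lift wb : X) = τ wb from rfl, mul_assoc, h3, ← mul_assoc (ρ g), (hg.1 _).eq,
        mul_assoc (σ _), ← mul_assoc (ρ g), h1, mul_assoc (σ (ζ ^ i.val)), ← mul_assoc (σ _),
        ← map_mul, ← hζadd, neg_add_cancel, ZMod.val_zero, pow_zero, map_one, one_mul, mul_assoc]
    have hgb : g * lift wb ∈ A := by
      refine hCA (hcent _ (fun r => by rw [map_mul]; exact (hg.1 r).mul_left (hbσ r)) (fun i => ?_)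
        (fun i => ?_) ?_)
      · rw [map_mul]
        exact (hg.2.1 i).mul_left (hgxz i (τ wb) (fun r => (hτσ r wb).symm)
          (hτcomm _ _ (hwe i).1).symm (hτcomm _ _ (hwe i).2).symm).1
      · rw [map_mul]
        exact (hg.2.2.1 i).mul_left (hgxz i (τ wb) (fun r => (hτσ r wb).symm)
          (hτcomm _ _ (hwe i).1).symm (hτcomm _ _ (hwe i).2).symm).2
      · rintro w (rfl | rfl)
        exacts [hflip _ iv hiv hwv, hflip _ iu hiu hwu]
    obtain ⟨r, hr⟩ := hA _ hgb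
    have hwbE : τ wb ∈ E := by
      let TE : AddSubmonoid W :=
        { carrier := {w | τ w ∈ E}
          zero_mem' := by
            obtain ⟨r, hr⟩ := hA _ (Subgroup.mem_subgroupOf.1
              ((QuotientGroup.eq_one_iff (lift 0)).1 (hlift 0)))
            exact show ρ _ ∈ E from hr ▸ hEσ r
          add_mem' := fun {w w'} hw hw' => by
            obtain ⟨r, -, hr⟩ := hτadd w w'
            exact show τ (w + w') ∈ E from hr ▸ E.mul_mem (hEσ r) (E.mul_mem hw hw') }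
      exact TE.add_mem (TE.nsmul_mem (show v ∈ TE from hER v (Or.inl rfl)) _)
        (TE.nsmul_mem (show u ∈ TE from hER u (Or.inr rfl)) _)
    obtain ⟨β, hβ0, hβ⟩ := hτq wb
    have hgE : ρ g = σ (r * β⁻¹) * τ wb := by
      have h1 : σ r * τ wb = σ β * ρ g := by
        rw [hr, map_mul, mul_assoc, show ρ (lift wb : X) = τ wb from rfl, ← pow_two, hβ, (hg.1 β).eq]
      rw [mul_comm r, map_mul, mul_assoc, h1, ← mul_assoc, ← map_mul, inv_mul_cancel₀ hβ0, map_one,
        one_mul]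
    have h1 : ρ g = σ 1 := hEeigen _ (hgE ▸ E.mul_mem (hEσ _) hwbE) 1 a₁ ha₁0 (by
      rw [map_one]; exact hg.2.2.2)
    exact hρ (by rw [h1, map_one, map_one])
  have hcard : Nat.card K ≤ 6 := by
    have hv0 : v ≠ 0 := fun z => by rw [z, map_zero, AddMonoidHom.zero_apply] at hvu; exact zero_ne_one hvu
    have hu0 : u ≠ 0 := fun z => by rw [z, map_zero] at hvu; exact zero_ne_one hvu
    let S : Finset (W × W) :=
      {(v, u), (v, v + u), (u, v), (u, v + u), (v + u, v), (v + u, u)}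
    have hmem : ∀ g : K, (κ g v, κ g u) ∈ S := by
      rintro ⟨g, hg⟩
      have himg : ∀ w, w ≠ 0 → (∀ i, c (eW i) w = 0 ∧ c (fW i) w = 0) →
          κ g w = v ∨ κ g w = u ∨ κ g w = v + u := fun w hw0 hw => by
        refine (hplane _ fun i => ?_).resolve_left fun z => hw0 (hκinj g (z.trans ?_))
        · refine ⟨?_, ?_⟩
          · rw [← (hκfix g hg i).1, hJconj g hg.1, (hw i).1]
          · rw [← (hκfix g hg i).2, hJconj g hg.1, (hw i).2]
        · refine ((hκmk g 1).trans ?_).symm.trans (congrArg (κ g) ?_)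
          · simp
            rfl
          · rfl
      have hne : κ g v ≠ κ g u := fun e => by
        have := hκinj g e
        rw [this, halt] at hvu
        exact zero_ne_one hvu
      rcases himg v hv0 (fun i => ⟨(horth i).1, (horth i).2.2.1⟩) with h1 | h1 | h1 <;>
        rcases himg u hu0 (fun i => ⟨(horth i).2.1, (horth i).2.2.2⟩) with h2 | h2 | h2 <;>
        rw [h1, h2] at hne ⊢ <;> first | exact absurd rfl hne | simp [S]
    have hinj : Function.Injective fun g : K => (⟨(κ g v, κ g u), hmem g⟩ : S) := by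
      intro g h e
      have e' := congrArg Subtype.val e
      simp only [Prod.mk.injEq] at e'
      have h1 : ∀ w, κ g w = κ h w → κ ((g⁻¹ * h : K) : X) w = w := fun w hw => by
        rw [Subgroup.coe_mul, Subgroup.coe_inv, hκmul, ← hw, ← hκmul, inv_mul_cancel, hκone]
      exact inv_mul_eq_one.1 (Subtype.ext (hker _ (g⁻¹ * h).2 (h1 v e'.1) (h1 u e'.2)))
    refine (Nat.card_le_card_of_injective _ hinj).trans ?_
    rw [Nat.card_eq_fintype_card, Fintype.card_coe]
    exact Finset.card_le_six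
  have hKU : ∀ g ∈ K, ∀ x ∈ D.U, ρ g x ∈ D.U := fun g hg x hx i => by
    show D.x i (ρ g x) = ρ g x
    rw [Heis.comm_apply (hg.2.1 i).symm, hx i]
  letI : MulAction K D.U :=
    { smul := fun g x => ⟨ρ g x, hKU g g.2 x x.2⟩
      one_smul := fun x => Subtype.ext (by show ρ (1 : X) (x : V) = x; rw [map_one]; rfl)
      mul_smul := fun g h x => Subtype.ext (CfsgLib.OddBase.map_mul_apply ρ g h x) }
  have hsmul : ∀ (g : K) (x : D.U), ((g • x : D.U) : V) = ρ g x := fun g x => rfl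
  have hfaith : ∀ g : K, (∀ x : D.U, g • x = x) → g = 1 := fun g hg =>
    Subtype.ext (hρ (((hfinal g g.2.2.2.1) fun x hx =>
      congrArg Subtype.val (hg ⟨x, hx⟩)).trans (map_one ρ).symm))
  haveI : FaithfulSMul K D.U := ⟨fun {g h} e => by
    refine inv_mul_eq_one.1 (hfaith _ fun x => ?_)
    rw [mul_smul, ← e, inv_smul_smul]⟩
  have hK1 : ∀ (g : X) (hg : g ∈ K), (⟨g, hg⟩ : K) = 1 → ρ g = 1 := fun g hg e => by
    rw [show g = 1 from congrArg Subtype.val e, map_one]
  rcases Nat.eq_zero_or_pos s with rfl | hs1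
  · -- the plane is everything: a second multiple of the vector controls the field automorphisms
    obtain ⟨γ, hγ⟩ := IsCyclic.exists_monoid_generator (α := Fˣ)
    set θ : F := (γ : F) with hθdef
    have hθ : ∀ r : F, r ≠ 0 → ∃ n : ℕ, θ ^ n = r := fun r hr => by
      obtain ⟨n, hn⟩ := (Submonoid.mem_powers_iff _ _).1 (hγ (Units.mk0 r hr))
      exact ⟨n, by rw [hθdef, ← Units.val_pow_eq_pow_val, hn]; rfl⟩
    have hlinK : ∀ g, ρ g a₁ = a₁ → (∀ r, α g r = r) → g ∈ K := fun g h1 h2 =>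
      ⟨fun r => (hα g r).trans (by rw [h2]), fun i => i.elim0, fun i => i.elim0, h1⟩
    rcases Nat.lt_or_ge (Nat.card F) 6 with hF | hF
    · have hF3 : Nat.card F = 3 := by
        haveI : Fintype F := Fintype.ofFinite F
        have h1 : Fintype.card F % 4 = 3 := by
          by_contra h
          obtain ⟨β, -, hβ⟩ := hτq v
          obtain ⟨α', -, hα'⟩ := hτq u
          obtain ⟨γ', hγ'⟩ := isSquare_mul_of_not (hv2 β hβ) (hu2 α' hα')
          obtain ⟨m, hm⟩ := FiniteField.isSquare_neg_one_iff.2 h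
          obtain ⟨r, hr0, hr⟩ := hτadd v u
          refine (hbad _ hvu').2 (r ^ 2 * -(β * α')) ?_ ⟨r * m * γ', by
            rw [hγ', show -(γ' * γ') = (-1 : F) * (γ' * γ') by ring, hm]; ring⟩
          have hanti₂ : τ u * τ v = σ (-1) * (τ v * τ u) := by
            rw [hττ, hanti v u, hvu, show ((-1 : ZMod 2)).val = 1 from rfl, pow_one,
              hζ.eq_neg_one_of_two_right]
          rw [hr, ((hτσ r v).mul_right (hτσ r u)).mul_pow, ← map_pow, map_mul σ]
          congr 1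
          rw [pow_two, mul_assoc, ← mul_assoc (τ u) (τ v) (τ u), hanti₂, mul_assoc (σ (-1)),
            mul_assoc (τ v) (τ u) (τ u), ← pow_two (τ u), hα', ← mul_assoc (τ v) (σ (-1)),
            ← (hτσ _ v).eq, mul_assoc (σ (-1)), ← mul_assoc (τ v) (τ v), ← pow_two (τ v), hβ,
            ← map_mul, ← map_mul, neg_one_mul]
        rw [Nat.card_eq_fintype_card] at hF ⊢
        omega
      obtain ⟨b, b', hbb⟩ := exists_two_points (W := D.U) hcard
      refine ⟨a₁, b, b', fun g hga hgb hgb' => ?_⟩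
      have hgK : g ∈ K := hlinK g hga fun r => by
        haveI : Fintype F := Fintype.ofFinite F
        rw [Nat.card_eq_fintype_card] at hF3
        by_cases hr : r = 0
        · rw [hr, map_zero]
        have h2 : r * r = 1 := by
          have := FiniteField.pow_card_sub_one_eq_one r hr
          rw [hF3] at this
          rwa [pow_two] at this
        rcases mul_self_eq_one_iff.1 h2 with rfl | rfl
        · rw [map_one]
        · rw [map_neg, map_one]
      exact hK1 g hgK (hbb ⟨g, hgK⟩ (Subtype.ext hgb) (Subtype.ext hgb'))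
    · obtain ⟨b, hbb⟩ := exists_one_point (W := D.U) hcard fun g hg => by
        obtain ⟨x₀, hx₀⟩ : ∃ x : D.U, g • x ≠ x := by
          by_contra h
          push Not at h
          exact hg (hfaith g h)
        let Φ : MulAction.fixedBy D.U g × F → D.U := fun p =>
          ⟨((p.1 : D.U) : V) + σ p.2 (x₀ : V), D.U.add_mem (p.1 : D.U).2 (D.sc_mem x₀.2 _)⟩
        have hΦ : Function.Injective Φ := by
          rintro ⟨y, r⟩ ⟨y', r'⟩ e
          have e' := congrArg Subtype.val e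
          simp only [Φ] at e'
          by_cases hr : r = r'
          · subst hr
            exact Prod.ext (Subtype.ext (Subtype.ext (add_right_cancel e'))) rfl
          exfalso
          apply hx₀
          apply Subtype.ext
          have e2 : ρ g (((y : D.U) : V) + σ r (x₀ : V)) = ρ g (((y' : D.U) : V) + σ r' (x₀ : V)) :=
            congrArg _ e'
          rw [map_add, map_add, ← hsmul g y.1, ← hsmul g y'.1, show g • (y : D.U) = y from y.2,
            show g • (y' : D.U) = y' from y'.2, Heis.comm_apply (g.2.1 r), Heis.comm_apply (g.2.1 r')] at e2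
          have e3 : σ (r - r') (ρ g (x₀ : V) - x₀) = 0 := by
            rw [map_sub σ]
            show σ r (_ - _) - σ r' (_ - _) = 0
            rw [map_sub, map_sub]
            linear_combination (norm := abel) e2 - e'
          rw [hsmul]
          refine sub_eq_zero.1 ?_
          have := congrArg (σ (r - r')⁻¹) e3
          rwa [map_zero, ← CfsgLib.OddBase.mul_apply', ← map_mul,
            inv_mul_cancel₀ (sub_ne_zero.2 hr), map_one] at this
        have := Nat.card_le_card_of_injective Φ hΦ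
        rw [Nat.card_prod] at this
        exact le_trans (Nat.mul_le_mul_left _ hF) this
      refine ⟨a₁, σ θ a₁, b, fun g hga hgθ hgb => ?_⟩
      rw [← CfsgLib.OddBase.mul_apply', hα, CfsgLib.OddBase.mul_apply', hga] at hgθ
      have hfix : α g θ = θ := D.sc_cancel hgθ ha₁0
      have hgK : g ∈ K := hlinK g hga fun r => by
        by_cases hr : r = 0
        · rw [hr, map_zero]
        · obtain ⟨n, rfl⟩ := hθ r hr
          rw [map_pow, hfix]
      exact hK1 g hgK (hbb ⟨g, hgK⟩ (Subtype.ext hgb))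
  · obtain ⟨b, b', hbb⟩ := exists_two_points (W := D.U) hcard
    obtain ⟨w, w', hw⟩ := exists_rigid_vectors hs1 hE ha₁ ha₁0 b.2 b'.2
    refine ⟨a₁, w, w', fun g hga hgw hgw' => ?_⟩
    obtain ⟨hgσ, hgx, hgz, hgb, hgb'⟩ := hw (ρ g) (ρ g⁻¹) (α g) (rho_inv_mul ρ g) (hα g)
      (fun i => (hQ g i).1) (fun i => (hQ g i).2) hga hgw hgw'
    have hgK : g ∈ K := ⟨hgσ, hgx, hgz, hga⟩
    exact hK1 g hgK (hbb ⟨g, hgK⟩ (Subtype.ext hgb) (Subtype.ext hgb'))

end CfsgLib.SolBase
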