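import Cfsg.Agent.Lib.OddBase.Basic

/-!
# Triples of vectors with trivial common stabilizer

Definitions for three-vector bases of completely reducible solvable groups.
-/

set_option autoImplicit false

universe u v

namespace CfsgLib.SolBase

open CfsgLib.OddBase (Inv CR res res_apply one_apply' ext_end)

variable {X : Type u} [Group X] {V : Type v} [AddCommGroup V] (ρ : X →* AddMonoid.End V)

/-- Three vectors with common stabilizer acting trivially. -/
def HasBase3 : Prop := ∃ a b c : V, ∀ g, ρ g a = a → ρ g b = b → ρ g c = c → ρ g = 1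

/-- The induction hypothesis: all smaller modules of solvable groups have a base of size three. -/
def SmallBase3 (n : ℕ) : Prop :=
  ∀ (Y : Type u) [Group Y] [Finite Y], Group.IsSolvable Y →
    ∀ (W : Type v) [AddCommGroup W] [Finite W], Nat.card W < n →
      ∀ σ : Y →* AddMonoid.End W, CR σ → HasBase3 σ

theorem SmallBase3.mono {n m : ℕ} (h : SmallBase3.{u, v} n) (hm : m ≤ n) : SmallBase3.{u, v} m :=
  fun Y _ _ hY W _ _ hW σ hσ => h Y hY W (lt_of_lt_of_le hW hm) σ hσ

/-- An irreducible action is completely reducible. -/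
theorem cr_of_irreducible (hirr : ∀ U, Inv ρ U → U = ⊥ ∨ U = ⊤) : CR ρ := by
  intro U hU
  rcases hirr U hU with rfl | rfl
  · exact ⟨⊤, fun g x _ => AddSubgroup.mem_top _, bot_inf_eq _, bot_sup_eq _⟩
  · exact ⟨⊥, fun g x hx => by rw [AddSubgroup.mem_bot.1 hx, map_zero]; exact zero_mem _,
      inf_bot_eq _, sup_bot_eq _⟩

/-- A base can be taken with a non-zero first vector. -/
theorem HasBase3.exists_ne_zero [Nontrivial V] (h : HasBase3 ρ) :
    ∃ a b c : V, a ≠ 0 ∧ ∀ g, ρ g a = a → ρ g b = b → ρ g c = c → ρ g = 1 := by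
  obtain ⟨a, b, c, h⟩ := h
  by_cases ha : a = 0
  · by_cases hb : b = 0
    · by_cases hc : c = 0
      · obtain ⟨x, hx⟩ := exists_ne (0 : V)
        refine ⟨x, 0, 0, hx, fun g _ _ _ => h g ?_ ?_ ?_⟩ <;> simp [ha, hb, hc]
      · exact ⟨c, a, b, hc, fun g h1 h2 h3 => h g h2 h3 h1⟩
    · exact ⟨b, a, c, hb, fun g h1 h2 h3 => h g h2 h1 h3⟩
  · exact ⟨a, b, c, ha, h⟩

/-- The decomposable case. -/
theorem hasBase3_of_sup {U W : AddSubgroup V} (hU : Inv ρ U) (hW : Inv ρ W) (hs : U ⊔ W = ⊤)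
    (hd : U ⊓ W = ⊥) (h1 : HasBase3 (res ρ U hU)) (h2 : HasBase3 (res ρ W hW)) : HasBase3 ρ := by
  obtain ⟨a, b, c, h1⟩ := h1
  obtain ⟨a', b', c', h2⟩ := h2
  refine ⟨(a : V) + a', (b : V) + b', (c : V) + c', fun g ha hb hc => ?_⟩
  have split : ∀ (x : U) (y : W), ρ g ((x : V) + y) = x + y →
      res ρ U hU g x = x ∧ res ρ W hW g y = y := fun x y e => by
    rw [map_add] at e
    have e' : ρ g (x : V) - x = y - ρ g (y : V) := by
      rw [sub_eq_sub_iff_add_eq_add, e]; abel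
    have hm : ρ g (x : V) - x ∈ U ⊓ W :=
      ⟨U.sub_mem (hU g x x.2) x.2, e' ▸ W.sub_mem y.2 (hW g y y.2)⟩
    rw [hd, AddSubgroup.mem_bot] at hm
    exact ⟨Subtype.ext (sub_eq_zero.1 hm), Subtype.ext (sub_eq_zero.1 (e'.symm.trans hm)).symm⟩
  have eU := h1 g (split a a' ha).1 (split b b' hb).1 (split c c' hc).1
  have eW := h2 g (split a a' ha).2 (split b b' hb).2 (split c c' hc).2
  refine ext_end fun x => ?_
  obtain ⟨p, hp, q, hq, rfl⟩ := AddSubgroup.mem_sup.1 (hs ▸ AddSubgroup.mem_top x : x ∈ U ⊔ W)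
  rw [map_add, one_apply']
  have e1 := congrArg (fun f : AddMonoid.End U => ((f ⟨p, hp⟩ : U) : V)) eU
  have e2 := congrArg (fun f : AddMonoid.End W => ((f ⟨q, hq⟩ : W) : V)) eW
  simp only [res_apply, one_apply'] at e1 e2
  rw [e1, e2]

end CfsgLib.SolBase
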