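import Cfsg.Agent.Lib.SolBase.Basic

/-!
# Five inequivalent colourings with trivial stabilizer for a solvable permutation group

Given three-vector bases for smaller modules, a solvable permutation group has five colourings in
five colours, each with trivial stabilizer and no two equivalent.
-/

set_option autoImplicit false

universe u

namespace CfsgLib.SolBase

open CfsgLib.OddBase (Inv CR res res_apply ext_end mul_apply' one_apply')

/-- Five inequivalent colourings with trivial stabilizer. -/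
def Five {X : Type*} [Group X] {Ω : Type*} (φ : X →* Equiv.Perm Ω) : Prop :=
  ∃ F : Fin 5 → Ω → Fin 5, ∀ i j g, (∀ x, F j (φ g x) = F i x) → i = j ∧ φ g = 1

/-- The regular case. -/
theorem exists_five_regular {Ω : Type u} [Finite Ω] (G : Subgroup (Equiv.Perm Ω))
    (hsolv : Group.IsSolvable G) (N : Subgroup G) [N.Normal]
    (hab : ∀ a ∈ N, ∀ b ∈ N, a * b = b * a)
    (hmin : ∀ M : Subgroup G, M.Normal → M ≤ N → M = ⊥ ∨ M = N) (a₀ : Ω)
    (htr : ∀ b, ∃ n ∈ N, (n : G).1 a₀ = b) (IH : SmallBase3.{u, u} (Nat.card Ω + 1)) :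
    Five G.subtype := by
  classical
  have hfree : ∀ n m : N, (n : G).1 a₀ = (m : G).1 a₀ → n = m := by
    intro n m h
    apply Subtype.ext; apply Subtype.ext
    ext b
    obtain ⟨k, hk, rfl⟩ := htr b
    have e1 := hab n n.2 k hk
    have e2 := hab m m.2 k hk
    show ((n : G) * k : G).1 a₀ = ((m : G) * k : G).1 a₀
    rw [e1, e2]
    show k.1 ((n : G).1 a₀) = k.1 ((m : G).1 a₀)
    rw [h]
  have hcard : Nat.card N = Nat.card Ω := by
    refine Nat.card_congr (Equiv.ofBijective (fun n : N => (n : G).1 a₀) ⟨fun n m h => hfree n m h,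
      fun b => ?_⟩)
    obtain ⟨n, hn, e⟩ := htr b
    exact ⟨⟨n, hn⟩, e⟩
  letI : CommGroup N :=
    { (inferInstance : Group N) with mul_comm := fun a b => Subtype.ext (hab a a.2 b b.2) }
  let H : Subgroup G :=
    { carrier := {g | g.1 a₀ = a₀}
      one_mem' := rfl
      mul_mem' := fun {g h} hg hh => by
        show g.1 (h.1 a₀) = a₀
        rw [show h.1 a₀ = a₀ from hh]; exact hg
      inv_mem' := fun {g} hg => by
        show g.1⁻¹ a₀ = a₀
        rw [Equiv.Perm.inv_eq_iff_eq]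
        exact (show g.1 a₀ = a₀ from hg).symm }
  let σ : H →* AddMonoid.End (Additive N) :=
    { toFun := fun h => MonoidHom.toAdditive ((MulAut.conjNormal (h : G) : MulAut N).toMonoidHom)
      map_one' := ext_end fun w => by simp [one_apply']; rfl
      map_mul' := fun g h => ext_end fun w => by simp [mul_apply']; rfl }
  have hσ : ∀ (h : H) (n : N), ((Additive.toMul (σ h (Additive.ofMul n)) : N) : G) =
      (h : G) * n * (h : G)⁻¹ := fun h n => MulAut.conjNormal_apply _ _
  have hirr : ∀ U, Inv σ U → U = ⊥ ∨ U = ⊤ := by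
    intro U hU
    let M : Subgroup G :=
      { carrier := {g | ∃ hg : g ∈ N, Additive.ofMul (⟨g, hg⟩ : N) ∈ U}
        one_mem' := ⟨N.one_mem, U.zero_mem⟩
        mul_mem' := by
          rintro a b ⟨ha, ha'⟩ ⟨hb, hb'⟩
          exact ⟨N.mul_mem ha hb, U.add_mem ha' hb'⟩
        inv_mem' := by
          rintro a ⟨ha, ha'⟩
          exact ⟨N.inv_mem ha, U.neg_mem ha'⟩ }
    have hMn : M.Normal := ⟨fun m hm g => by
      obtain ⟨hm, hm'⟩ := hm
      obtain ⟨k, hk, hka⟩ := htr (g.1 a₀)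
      have hh : k⁻¹ * g ∈ H := by
        show k.1⁻¹ (g.1 a₀) = a₀
        rw [← hka]; simp
      set h : H := ⟨k⁻¹ * g, hh⟩ with hhdef
      have hg : g * m * g⁻¹ = (h : G) * m * (h : G)⁻¹ := by
        have hin := ‹N.Normal›.conj_mem m hm (k⁻¹ * g)
        show g * m * g⁻¹ = k⁻¹ * g * m * (k⁻¹ * g)⁻¹
        calc g * m * g⁻¹ = k * (k⁻¹ * g * m * (k⁻¹ * g)⁻¹) * k⁻¹ := by group
          _ = _ := by rw [hab k hk _ hin, mul_inv_cancel_right]
      refine ⟨‹N.Normal›.conj_mem m hm g, ?_⟩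
      have := hU h _ hm'
      convert this using 1
      exact congrArg Additive.ofMul (Subtype.ext (hg.trans (hσ h ⟨m, hm⟩).symm))⟩
    rcases hmin M hMn (fun g hg => hg.1) with e | e
    · left
      refine (AddSubgroup.eq_bot_iff_forall _).2 fun w hw => ?_
      have : ((Additive.toMul w : N) : G) ∈ M := ⟨(Additive.toMul w).2, hw⟩
      rw [e, Subgroup.mem_bot, OneMemClass.coe_eq_one] at this
      exact congrArg Additive.ofMul this
    · right
      refine eq_top_iff.2 fun w _ => ?_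
      have : ((Additive.toMul w : N) : G) ∈ M := by rw [e]; exact (Additive.toMul w).2
      exact this.2
  obtain ⟨v', w', u', hvw⟩ := IH H inferInstance (Additive N)
    (by show Nat.card N < _; omega) σ (cr_of_irreducible σ hirr)
  set v : N := Additive.toMul v' with hv
  set w : N := Additive.toMul w' with hw
  set u : N := Additive.toMul u' with hu
  let P : N → Ω := fun n => (n : G).1 a₀
  have fixcomm : ∀ g : G, g.1 a₀ = a₀ → ∀ n : N, g.1 (P n) = P n → g * n * g⁻¹ = n := by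
    intro g hg n hn
    have := hfree ⟨g * n * g⁻¹, ‹N.Normal›.conj_mem n n.2 g⟩ n (by
      show g.1 ((n : G).1 (g.1⁻¹ a₀)) = _
      rw [Equiv.Perm.inv_eq_iff_eq.2 hg.symm]
      exact hn)
    exact congrArg Subtype.val this
  have final : ∀ g : G, g.1 a₀ = a₀ → g.1 (P v) = P v → g.1 (P w) = P w →
      g.1 (P u) = P u → g = 1 := by
    intro g hg h1 h2 h3
    have e := hvw ⟨g, hg⟩
      (congrArg Additive.ofMul (Subtype.ext ((hσ ⟨g, hg⟩ v).trans (fixcomm g hg v h1))) :)
      (congrArg Additive.ofMul (Subtype.ext ((hσ ⟨g, hg⟩ w).trans (fixcomm g hg w h2))) :)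
      (congrArg Additive.ofMul (Subtype.ext ((hσ ⟨g, hg⟩ u).trans (fixcomm g hg u h3))) :)
    apply Subtype.ext
    ext b
    obtain ⟨n, hn, rfl⟩ := htr b
    have e' := congrArg (fun f : AddMonoid.End (Additive N) =>
      ((Additive.toMul (f (Additive.ofMul ⟨n, hn⟩)) : N) : G)) e
    simp only [hσ, one_apply', toMul_ofMul] at e'
    show g.1 (n.1 a₀) = n.1 a₀
    conv_rhs => rw [← e']
    show _ = g.1 (n.1 (g.1⁻¹ a₀))
    rw [Equiv.Perm.inv_eq_iff_eq.2 hg.symm]
  haveI : Fintype Ω := Fintype.ofFinite Ω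
  haveI : Fintype N := Fintype.ofFinite N
  have hPfix : ∀ g : G, g.1 a₀ = a₀ → ∀ n : N, g * n * g⁻¹ = n → g.1 (P n) = P n := by
    intro g h1 n hn
    conv_rhs => rw [show P n = (n : G).1 a₀ from rfl, ← hn]
    show _ = g.1 ((n : G).1 (g.1⁻¹ a₀))
    rw [Equiv.Perm.inv_eq_iff_eq.2 h1.symm]
  have hPinj : Function.Injective P := fun n m h => hfree n m h
  -- a small set of points with trivial pointwise stabilizer
  obtain ⟨T, hT, hT4, hbig⟩ : ∃ T : Finset N, (∀ g : G, (∀ n ∈ T, g.1 (P n) = P n) → g = 1) ∧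
      T.card ≤ 4 ∧ (T = Finset.univ ∨ T.card + 2 ≤ Nat.card Ω) := by
    have hall : ∀ g : G, (∀ n : N, g.1 (P n) = P n) → g = 1 := fun g h =>
      final g (h 1) (h v) (h w) (h u)
    rcases lt_trichotomy (Nat.card Ω) 5 with h | h | h
    · refine ⟨Finset.univ, fun g hg => hall g fun n => hg n (Finset.mem_univ n), ?_, Or.inl rfl⟩
      rw [Finset.card_univ, ← Nat.card_eq_fintype_card]
      omega
    · haveI : Fact (Nat.Prime 5) := ⟨by norm_num⟩
      haveI : Nontrivial N := Finite.one_lt_card_iff_nontrivial.1 (by omega)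
      obtain ⟨n₁, hn₁⟩ := exists_ne (1 : N)
      refine ⟨{1, n₁}, fun g hg => ?_, ?_, Or.inr ?_⟩
      · have h0 : g.1 a₀ = a₀ := hg 1 (by simp)
        have hc := fixcomm g h0 n₁ (hg n₁ (by simp))
        refine hall g fun n => hPfix g h0 n ?_
        obtain ⟨k, rfl⟩ := Subgroup.mem_zpowers_iff.1
          (mem_zpowers_of_prime_card (p := 5) (g' := n) (hcard.trans h) hn₁)
        rw [Subgroup.coe_zpow, ← conj_zpow, hc]
      · exact (Finset.card_insert_le _ _).trans (by simp)
      · have := Finset.card_insert_le (1 : N) {n₁}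
        rw [Finset.card_singleton] at this
        omega
    · refine ⟨{1, v, w, u}, fun g hg => final g (hg 1 (by simp)) (hg v (by simp)) (hg w (by simp))
        (hg u (by simp)), ?_, Or.inr ?_⟩
      · exact Finset.card_le_four
      · have := (Finset.card_le_four : ({1, v, w, u} : Finset N).card ≤ 4)
        omega
  obtain ⟨e, he⟩ : ∃ e : N → Fin 5, (∀ n, e n ≠ 0) ∧ Set.InjOn e T := by
    let f : T → Fin 5 := fun n => (Fin.castLE hT4 (T.equivFin n)).succ
    refine ⟨fun n => if h : n ∈ T then f ⟨n, h⟩ else 1, fun n => ?_, fun a ha b hb h => ?_⟩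
    · dsimp only
      split
      · exact Fin.succ_ne_zero _
      · decide
    · rw [Finset.mem_coe] at ha hb
      simp only [dif_pos ha, dif_pos hb, f] at h
      exact congrArg Subtype.val (T.equivFin.injective (Fin.castLE_injective _ (Fin.succ_injective _ h)))
  let F : Fin 5 → Ω → Fin 5 := fun i x =>
    if h : ∃ n ∈ T, P n = x then i + e h.choose else i
  have hFT : ∀ i, ∀ n ∈ T, F i (P n) = i + e n := by
    intro i n hn
    have h : ∃ m ∈ T, P m = P n := ⟨n, hn, rfl⟩
    simp only [F, dif_pos h, hPinj h.choose_spec.2]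
  have hFout : ∀ i x, F i x ≠ i → ∃ n ∈ T, P n = x := by
    intro i x hx
    by_contra h
    exact hx (by simp only [F, dif_neg h])
  refine ⟨F, fun i j g hg => ?_⟩
  have hstab : i = j → g = 1 := by
    rintro rfl
    refine hT g fun n hn => ?_
    have h1 : F i (g.1 (P n)) = i + e n := (hg (P n)).trans (hFT i n hn)
    obtain ⟨m, hm, hme⟩ := hFout i (g.1 (P n)) (by rw [h1]; simpa using he.1 n)
    rw [← hme, hFT i m hm] at h1
    rw [← hme, he.2 hm hn (add_left_cancel h1)]
  suffices hij : i = j from ⟨hij, by rw [hstab hij, map_one]⟩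
  rcases hbig with hu' | hbig
  · -- all colours are different: sum them
    subst hu'
    have hPs : Function.Surjective P := fun x => by
      obtain ⟨n, hn, e'⟩ := htr x
      exact ⟨⟨n, hn⟩, e'⟩
    have hcN : (Fintype.card N) = Nat.card Ω := by rw [← Nat.card_eq_fintype_card, hcard]
    have hn4 : Fintype.card N ≤ 4 := by rwa [Finset.card_univ] at hT4
    have hn0 : 0 < Fintype.card N := Fintype.card_pos
    let τ : Equiv.Perm N :=
      (Equiv.ofBijective P ⟨hPinj, hPs⟩).trans (g.1.trans (Equiv.ofBijective P ⟨hPinj, hPs⟩).symm)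
    have hτ : ∀ n, P (τ n) = g.1 (P n) := fun n =>
      (Equiv.ofBijective P ⟨hPinj, hPs⟩).apply_symm_apply _
    have hsum : ∑ n : N, (j + e (τ n)) = ∑ n : N, (i + e n) := Finset.sum_congr rfl fun n _ => by
      rw [← hFT j (τ n) (Finset.mem_univ _), hτ, ← hFT i n (Finset.mem_univ _)]
      exact hg (P n)
    rw [Finset.sum_add_distrib, Finset.sum_add_distrib, Equiv.sum_comp τ e, Finset.sum_const,
      Finset.sum_const, Finset.card_univ] at hsum
    have key : ∀ (m : Fin 5) (a b : Fin 5), m ≠ 0 → (m : ℕ) • a = (m : ℕ) • b → a = b := by decide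
    exact (key ⟨Fintype.card N, by omega⟩ j i (fun h => by
      have := congrArg Fin.val h
      simp only [Fin.val_zero] at this
      omega) (add_right_cancel hsum)).symm
  · by_contra hij
    have hlt : (T.image P).card + 2 ≤ (Finset.univ : Finset Ω).card := by
      rw [Finset.card_univ, ← Nat.card_eq_fintype_card]
      exact le_trans (Nat.add_le_add_right Finset.card_image_le 2) hbig
    obtain ⟨x, hx, y, hy, hxy⟩ := Finset.one_lt_card.1
      (show 1 < ((Finset.univ : Finset Ω) \ T.image P).card by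
        have := Finset.le_card_sdiff (T.image P) (Finset.univ : Finset Ω)
        omega)
    have hout : ∀ z ∈ (Finset.univ : Finset Ω) \ T.image P, ∃ n ∈ T, P n = g.1 z ∧ j + e n = i := by
      intro z hz
      have hzi : F i z = i := by
        refine dif_neg fun ⟨n, hn, h⟩ => ?_
        exact (Finset.mem_sdiff.1 hz).2 (Finset.mem_image.2 ⟨n, hn, h⟩)
      have h1 : F j (g.1 z) = i := (hg z).trans hzi
      obtain ⟨n, hn, h⟩ := hFout j (g.1 z) (by rw [h1]; exact hij)
      exact ⟨n, hn, h, by rw [← hFT j n hn, h, h1]⟩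
    obtain ⟨n, hn, hnx, hne'⟩ := hout x hx
    obtain ⟨m, hm, hmy, hme'⟩ := hout y hy
    exact hxy (g.1.injective (by rw [← hnx, ← hmy, he.2 hn hm (add_left_cancel (hne'.trans hme'.symm))]))

/-- The action on an invariant subset. -/
def resPerm {Ω : Type*} {X : Type*} [Group X] (φ : X →* Equiv.Perm Ω) (D : Set Ω)
    (h : ∀ g x, φ g x ∈ D ↔ x ∈ D) : X →* Equiv.Perm D where
  toFun g := (φ g).subtypePerm (h g)
  map_one' := by ext x; simp
  map_mul' a b := by
    ext x
    simp only [map_mul]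
    rfl

/-- A solvable permutation group has five inequivalent colourings with trivial stabilizer, if
smaller modules have bases of size three. -/
theorem exists_five : ∀ (n : ℕ), SmallBase3.{u, u} (n + 1) →
    ∀ (X : Type u) [Group X] [Finite X], Group.IsSolvable X →
    ∀ (Ω : Type u) [Finite Ω] [Nonempty Ω], Nat.card Ω ≤ n → ∀ φ : X →* Equiv.Perm Ω, Five φ := by
  intro n
  induction n using Nat.strong_induction_on with
  | _ n ih =>
  intro IH X _ _ hX Ω _ _ hΩ φ
  classical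
  set G : Subgroup (Equiv.Perm Ω) := φ.range with hG
  haveI hGs : Group.IsSolvable G := Group.isSolvable_of_surjective φ.rangeRestrict_surjective
  suffices h : Five G.subtype by
    obtain ⟨F, hF⟩ := h
    exact ⟨F, fun i j g hg => hF i j ⟨φ g, g, rfl⟩ hg⟩
  by_cases hbot : ∀ g : G, g = 1
  · refine ⟨fun i _ => i, fun i j g hg => ⟨?_, by rw [hbot g, map_one]⟩⟩
    exact (hg (Classical.arbitrary Ω)).symm
  by_cases hint : ∃ D : Set Ω, D.Nonempty ∧ D ≠ Set.univ ∧ ∀ (g : G) x, g.1 x ∈ D ↔ x ∈ D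
  · obtain ⟨D, hDne, hDu, hD⟩ := hint
    have hsum : Nat.card D + Nat.card (Dᶜ : Set Ω) = Nat.card Ω := by
      rw [Nat.card_coe_set_eq, Nat.card_coe_set_eq, Set.ncard_add_ncard_compl]
    haveI := hDne.to_subtype
    haveI := (Set.nonempty_compl.2 hDu).to_subtype
    have h1 : 0 < Nat.card D := Nat.card_pos
    have h2 : 0 < Nat.card (Dᶜ : Set Ω) := Nat.card_pos
    have hDc : ∀ (g : G) x, G.subtype g x ∈ Dᶜ ↔ x ∈ Dᶜ := fun g x => not_congr (hD g x)
    obtain ⟨FD, hFD⟩ := ih (Nat.card D) (by omega) (IH.mono (by omega)) G hGs D le_rfl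
      (resPerm G.subtype D hD)
    obtain ⟨FE, hFE⟩ := ih (Nat.card (Dᶜ : Set Ω)) (by omega) (IH.mono (by omega)) G hGs
      (Dᶜ : Set Ω) le_rfl (resPerm G.subtype Dᶜ hDc)
    refine ⟨fun i x => if h : x ∈ D then FD i ⟨x, h⟩ else FE i ⟨x, h⟩, fun i j g hg => ?_⟩
    obtain ⟨hij, e1⟩ := hFD i j g fun x => by
      have hgx : g.1 x.1 ∈ D := (hD g x.1).2 x.2
      exact (dif_pos hgx).symm.trans ((hg x.1).trans (dif_pos x.2))
    obtain ⟨-, e2⟩ := hFE i j g fun x => by
      have hgx : g.1 x.1 ∉ D := fun h => x.2 ((hD g x.1).1 h)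
      exact (dif_neg hgx).symm.trans ((hg x.1).trans (dif_neg x.2))
    refine ⟨hij, Equiv.ext fun x => ?_⟩
    by_cases hx : x ∈ D
    · exact congrArg (fun f : Equiv.Perm D => ((f ⟨x, hx⟩ : D) : Ω)) e1
    · exact congrArg (fun f : Equiv.Perm (Dᶜ : Set Ω) => ((f ⟨x, hx⟩ : (Dᶜ : Set Ω)) : Ω)) e2
  push Not at hint
  push Not at hbot
  obtain ⟨g₁, hg₁⟩ := hbot
  haveI : Nontrivial G := ⟨⟨g₁, 1, hg₁⟩⟩
  obtain ⟨N, ⟨hN, hNne⟩, hmin⟩ := (Set.toFinite {N : Subgroup G | N.Normal ∧ N ≠ ⊥}).exists_minimal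
    ⟨⊤, inferInstance, top_ne_bot⟩
  haveI := hN
  have hmin' : ∀ M : Subgroup G, M.Normal → M ≤ N → M = ⊥ ∨ M = N := fun M hM hle =>
    or_iff_not_imp_left.2 fun hMne => le_antisymm hle (hmin ⟨hM, hMne⟩ hle)
  have hab : ∀ a ∈ N, ∀ b ∈ N, a * b = b * a := by
    have h : ⁅N, N⁆ = ⊥ := by
      refine (hmin' _ (Subgroup.commutator_normal N N) (Subgroup.commutator_le_left N N)).resolve_right
        (Group.IsSolvable.commutator_lt_of_ne_bot hNne).ne
    intro a ha b hb
    have := Subgroup.commutator_mem_commutator ha hb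
    rw [h, Subgroup.mem_bot] at this
    exact commutatorElement_eq_one_iff_mul_comm.1 this
  haveI : Nontrivial N := (Subgroup.nontrivial_iff_ne_bot N).2 hNne
  obtain ⟨⟨n₁, hn₁⟩, hn₁1⟩ := exists_ne (1 : N)
  have hn₁' : n₁ ≠ 1 := fun h => hn₁1 (Subtype.ext h)
  obtain ⟨a₀, ha₀⟩ : ∃ a, n₁.1 a ≠ a := by
    by_contra h
    push Not at h
    exact hn₁' (Subtype.ext (Equiv.ext h))
  have htr : ∀ b, ∃ g : G, g.1 a₀ = b := fun b => by
    have := hint {x | ∃ g : G, g.1 a₀ = x} ⟨a₀, 1, rfl⟩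
    by_contra hb
    obtain ⟨g, x, hgx⟩ := this fun e => hb (e ▸ Set.mem_univ b : b ∈ {x | ∃ g : G, g.1 a₀ = x})
    apply hgx.elim
    · rintro ⟨⟨k, hk⟩, hno⟩
      exact hno ⟨g⁻¹ * k, by show g.1⁻¹ (k.1 a₀) = x; rw [hk]; simp⟩
    · rintro ⟨hno, k, hk⟩
      exact hno ⟨g * k, by show g.1 (k.1 a₀) = _; rw [hk]⟩
  let r : Setoid Ω :=
    { r := fun a b => ∃ m ∈ N, m.1 a = b
      iseqv := ⟨fun a => ⟨1, N.one_mem, rfl⟩, fun {a b} ⟨m, hm, e⟩ => ⟨m⁻¹, N.inv_mem hm, by
        show m.1⁻¹ b = a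
        rw [← e]; simp⟩, fun {a b c} ⟨m, hm, e⟩ ⟨m', hm', e'⟩ => ⟨m' * m, N.mul_mem hm' hm, by
        show m'.1 (m.1 a) = c
        rw [e, e']⟩⟩ }
  by_cases hreg : ∀ b, ∃ m ∈ N, m.1 a₀ = b
  · exact exists_five_regular G hGs N hab hmin' a₀ hreg (IH.mono (by omega))
  push Not at hreg
  obtain ⟨b₀, hb₀⟩ := hreg
  let Q := Quotient r
  let π : Ω → Q := Quotient.mk r
  have hπ : ∀ a b, π a = π b ↔ ∃ m ∈ N, m.1 a = b := fun a b => Quotient.eq
  let ψf : G → Q → Q := fun g => Quotient.map g.1 fun a b => by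
    rintro ⟨m, hm, e⟩
    exact ⟨g * m * g⁻¹, hN.conj_mem m hm g, by
      show g.1 (m.1 (g.1⁻¹ (g.1 a))) = g.1 b
      simp [e]⟩
  have hψf : ∀ g a, ψf g (π a) = π (g.1 a) := fun g a => rfl
  let ψ : G →* Equiv.Perm Q :=
    { toFun := fun g =>
        { toFun := ψf g
          invFun := ψf g⁻¹
          left_inv := fun c => by
            induction c using Quotient.inductionOn with
            | h a => show π ((g⁻¹).1 (g.1 a)) = π a; simp
          right_inv := fun c => by
            induction c using Quotient.inductionOn with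
            | h a => show π (g.1 ((g⁻¹).1 a)) = π a; simp }
      map_one' := Equiv.ext fun c => by
        induction c using Quotient.inductionOn with
        | h a => rfl
      map_mul' := fun g h => Equiv.ext fun c => by
        induction c using Quotient.inductionOn with
        | h a => rfl }
  have hψ : ∀ g a, ψ g (π a) = π (g.1 a) := fun g a => rfl
  haveI : Fintype Ω := Fintype.ofFinite Ω
  have hQlt : Nat.card Q < Nat.card Ω := by
    haveI : Fintype Q := Fintype.ofFinite Q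
    rw [Nat.card_eq_fintype_card, Nat.card_eq_fintype_card]
    exact Fintype.card_lt_of_surjective_not_injective π Quotient.exists_rep fun hinj =>
      ha₀ (hinj ((hπ _ _).2 ⟨n₁, hn₁, rfl⟩)).symm
  haveI : Nonempty Q := ⟨π a₀⟩
  obtain ⟨FQ, hFQ⟩ := ih (Nat.card Q) (by omega) (IH.mono (by omega)) G hGs Q le_rfl ψ
  let D : Set Ω := {x | π x = π a₀}
  have hDlt : Nat.card D < Nat.card Ω := by
    rw [Nat.card_coe_set_eq, ← Set.ncard_univ]
    refine Set.ncard_lt_ncard ⟨Set.subset_univ _, fun h => ?_⟩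
    obtain ⟨m, hm, e⟩ := (hπ _ _).1 (h (Set.mem_univ b₀)).symm
    exact hb₀ m hm e
  let H : Subgroup G :=
    { carrier := {g | ψ g (π a₀) = π a₀}
      one_mem' := by simp
      mul_mem' := fun {g h} hg hh => by
        show ψ (g * h) _ = _
        rw [map_mul, Equiv.Perm.mul_apply, show ψ h _ = _ from hh]; exact hg
      inv_mem' := fun {g} hg => by
        show ψ g⁻¹ _ = _
        rw [map_inv, Equiv.Perm.inv_eq_iff_eq]
        exact (show ψ g _ = _ from hg).symm }
  have hHD : ∀ (h : H) x, (G.subtype.comp H.subtype) h x ∈ D ↔ x ∈ D := fun h x => by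
    show π ((h : G).1 x) = π a₀ ↔ π x = π a₀
    rw [← hψ]
    exact ⟨fun e => (ψ (h : G)).injective (e.trans (show ψ (h : G) _ = _ from h.2).symm),
      fun e => e.symm ▸ h.2⟩
  haveI : Nonempty D := ⟨⟨a₀, rfl⟩⟩
  obtain ⟨FD, hFD⟩ := ih (Nat.card D) (by omega) (IH.mono (by omega)) H inferInstance D le_rfl
    (resPerm (G.subtype.comp H.subtype) D hHD)
  have hlift : ∀ c : Q, ∃ t : G, π (t.1 a₀) = c := fun c => by
    induction c using Quotient.inductionOn with
    | h a => obtain ⟨t, ht⟩ := htr a; exact ⟨t, congrArg π ht⟩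
  choose t ht using hlift
  have hback : ∀ x, (t (π x)).1⁻¹ x ∈ D := fun x => by
    show π _ = π a₀
    apply (ψ (t (π x))).injective
    rw [hψ, hψ, ht]; simp
  refine ⟨fun i x => FD (FQ i (π x)) ⟨_, hback x⟩, fun i j g hg => ?_⟩
  have key : ∀ c : Q, ∃ hh : (t (ψ g c))⁻¹ * g * t c ∈ H, FQ i c = FQ j (ψ g c) ∧
      resPerm (G.subtype.comp H.subtype) D hHD ⟨_, hh⟩ = 1 := by
    intro c
    have hh : (t (ψ g c))⁻¹ * g * t c ∈ H := by
      show ψ _ (π a₀) = π a₀
      rw [map_mul, map_mul, map_inv, Equiv.Perm.mul_apply, Equiv.Perm.mul_apply, hψ (t c), ht,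
        Equiv.Perm.inv_eq_iff_eq, hψ (t (ψ g c)), ht]
    refine ⟨hh, hFD _ _ _ fun x => ?_⟩
    have hπx : π ((t c).1 x.1) = c := by rw [← hψ, show π x.1 = π a₀ from x.2, hψ, ht]
    have hπg : π (g.1 ((t c).1 x.1)) = ψ g c := by rw [← hψ, hπx]
    have h1 := hg ((t c).1 x.1)
    simp only [Subgroup.coe_subtype] at h1
    have ex : (⟨_, hback ((t c).1 x.1)⟩ : D) = x := Subtype.ext (by
      show (t (π _)).1⁻¹ _ = _
      rw [hπx]; simp)
    have eg : (⟨_, hback (g.1 ((t c).1 x.1))⟩ : D) =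
        resPerm (G.subtype.comp H.subtype) D hHD ⟨_, hh⟩ x := Subtype.ext (by
      show (t (π _)).1⁻¹ _ = ((t (ψ g c))⁻¹ * g * t c : G).1 x.1
      rw [hπg]; rfl)
    rw [ex, eg, hπx, hπg] at h1
    exact h1
  obtain ⟨hij, hψg⟩ := hFQ i j g fun c => (key c).choose_spec.1.symm
  refine ⟨hij, Equiv.ext fun x => ?_⟩
  obtain ⟨hh, -, hid⟩ := key (π x)
  have := congrArg (fun f : Equiv.Perm D => ((f ⟨_, hback x⟩ : D) : Ω)) hid
  simp only [Equiv.Perm.one_apply] at this
  change (t (ψ g (π x))).1⁻¹ (g.1 ((t (π x)).1 ((t (π x)).1⁻¹ x))) = (t (π x)).1⁻¹ x at this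
  rw [hψg, Equiv.Perm.one_apply] at this
  simpa using this

end CfsgLib.SolBase
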